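import Cfsg.Agent.KZ.Lie.ApiB_m3
import Cfsg.Agent.DL.Ex.Tw
import Cfsg.Agent.H70.OutCount
import Cfsg.Agent.H79.Steinberg
import Cfsg.Agent.DL.PP.Cor
import Cfsg.Agent.DL.Ex.Fin_m3
import Cfsg.Agent.FastGrp
import Cfsg.Agent.Prune
set_option linter.all false

section
prune_inst 0x7ffdbdf8bfbcbddfffff7ffffed9dffc0991dfffe6fffd43ffe8e1ff0b9f83880dc56b850df010fe1f5660b499387843fb7eeeffea6bdc7ffffd5ff41ffbee5fe5feb588119084240ffc6fff93f07f8a7f3fffffffffffffffffffffffffffbeffffffffffff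

-- part: KZ/DatX/Defs
section
set_option linter.all false
open scoped Cfsg.Agent.FastGrp

/-!
# KZ, the exceptional groups as sections of `G ^ F`: the interface (helper84)

`hp : IsType C l M` (types `G2 B2 D4 F4 E6 E7 E8`), the algebraic group is the adjoint group `C.group k`.

* `XF hp p k Mx` : a Steinberg endomorphism `X.F` which acts on the torus by the matrix `Mx`; `X.D` is the datum, with
  `X.D.R = X.D.I = Fin l`, `X.D.W = M.Group`, `X.D.Mx = Mx`, `X.D.wt a = a` (all by `rfl`);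
* `XS X Adm d S` : `S` is a normal subgroup of `G ^ F` with quotient of exponent dividing `d`, all automorphisms are lifted;
  `s.sit : Sit X.D Adm S`;
* `Has hp p Mx Adm d S` : there are such `k`, `X`, `s`;
* `sM C l i` : the matrix of a simple reflection, `Wm_word`; `pm p π x` : the monomial matrices; `AdmF`, `AdmL`.
-/

set_option autoImplicit false
set_option linter.unusedSectionVars false

namespace Cfsg.Agent.KZ.DatX

open CoxeterSystem Cfsg Cfsg.Lie Cfsg.Lie.ChevalleyDatum Matrix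
open Cfsg.Agent.ChevalleyStructure Cfsg.Agent.ChevalleyStructure.Elts Cfsg.Agent.ChevalleyStructure.CoxeterGeom
  Cfsg.Agent.ChevalleyStructure.CoxeterGeomTypes Cfsg.Agent.ChevalleyStructure.NPerm
open Cfsg.Agent.Tits.Roots Cfsg.Agent.Nodes Cfsg.Agent.Nodes.RGDChev
open Cfsg.Agent.KFacts.RgdChevCoord Cfsg.Agent.BpExc.TowChev
open Cfsg.Agent.DL Cfsg.Agent.DL.Ex Cfsg.Agent.DL.PP Cfsg.Agent.DL.Uni Cfsg.Agent.KZ.Lie

variable {C : ChevalleyDatum} {l : ℕ} {M : CoxeterMatrix (Fin l)}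

/-! ### matrices -/

/-- the matrix of the simple reflection `i` on the cocharacter lattice (basis: the fundamental coweights) -/
def sM (C : ChevalleyDatum) (l : ℕ) (i : Fin l) : Matrix (Fin l) (Fin l) ℤ :=
  Matrix.of fun a b => (if a = b then 1 else 0) - if b = i then cartanOf C l i a else 0

/-- the monomial matrix with the entry `p ^ x j` at the position `(π j, j)` -/
def pm (p : ℕ) (π : Equiv.Perm (Fin l)) (x : Fin l → ℕ) : Matrix (Fin l) (Fin l) ℤ :=
  Matrix.of fun i j => if i = π j then (p : ℤ) ^ x j else 0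

/-- field automorphisms only -/
def AdmF (p : ℕ) (A : Matrix (Fin l) (Fin l) ℤ) : Prop := ∃ j : ℕ, A = (p : ℤ) ^ j • (1 : Matrix (Fin l) (Fin l) ℤ)

/-- field automorphisms times the matrices of the list `L` -/
def AdmL (p : ℕ) (L : List (Matrix (Fin l) (Fin l) ℤ)) (A : Matrix (Fin l) (Fin l) ℤ) : Prop :=
  ∃ j : ℕ, ∃ B ∈ L, A = (p : ℤ) ^ j • B

theorem pm_add (p : ℕ) (π : Equiv.Perm (Fin l)) (j : ℕ) (x : Fin l → ℕ) :
    pm p π (fun i => j + x i) = (p : ℤ) ^ j • pm p π x := by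
  ext a b
  simp only [pm, Matrix.of_apply, Matrix.smul_apply, smul_eq_mul]
  split_ifs
  · rw [pow_add]
  · rw [mul_zero]

theorem pm_one (p : ℕ) : pm p (1 : Equiv.Perm (Fin l)) (fun _ => 0) = 1 := by
  ext a b
  simp only [pm, Matrix.of_apply, Matrix.one_apply, Equiv.Perm.one_apply, pow_zero]

theorem pm_const (p : ℕ) (π : Equiv.Perm (Fin l)) (j : ℕ) : pm p π (fun _ => j) = (p : ℤ) ^ j • pm p π fun _ => 0 :=
  pm_add p π j fun _ => 0

theorem AdmL.admF {p : ℕ} {A : Matrix (Fin l) (Fin l) ℤ} (h : AdmL p [1] A) : AdmF p A := by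
  obtain ⟨j, B, hB, rfl⟩ := h
  rw [List.mem_singleton.1 hB]
  exact ⟨j, rfl⟩

/-! ### the datum -/

/-- A Steinberg endomorphism of the adjoint group which acts on the torus by the matrix `Mx`. -/
structure XF (hp : IsType C l M) (p : ℕ) [Fact p.Prime] (k : Type) [Field k] [CharP k p] [IsAlgClosed k]
    (Mx : Matrix (Fin l) (Fin l) ℤ) where
  hk : LocFin k
  F : MulAut ↥(C.group k)
  amb : Amb p (C.group k).subtype F
  g : (Fin l → ℤ) → Fin l → ℤ
  ex : (Fin l → ℤ) → ℕ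
  g_root : ∀ a, IsRoot M.toCoxeterSystem hp.isCartan a → IsRoot M.toCoxeterSystem hp.isCartan (g a)
  F_x : ∀ a, IsRoot M.toCoxeterSystem hp.isCartan a → ∃ c : k, c ≠ 0 ∧ ∀ u, F (xc hp a u) = xc hp (g a) (c * u ^ p ^ ex a)
  F_τ : ∀ c, F (tau hp c) = tau hp (mon Mx c)
  qs : ∀ a, IsRoot M.toCoxeterSystem hp.isCartan a → 0 ≤ a → 0 ≤ g a

variable {hp : IsType C l M} {p : ℕ} [Fact p.Prime] {k : Type} [Field k] [CharP k p] [IsAlgClosed k]
  {Mx : Matrix (Fin l) (Fin l) ℤ}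

namespace XF

variable (X : XF hp p k Mx)

/-- the datum -/
noncomputable def D : Datum p (C.group k).subtype X.F ⊤ :=
  (chev hp X.hk one_pos).withF X.amb X.g X.ex X.g_root X.F_x Mx X.F_τ

theorem D_qs : X.D.QS := X.qs

theorem finite : Finite ↥(GF X.F ⊤) := Asm.finite_GF X.D

theorem D_Mx : X.D.Mx = Mx := rfl

/-- the roots -/
theorem rt_iff (a : Fin l → ℤ) : X.D.Rt a ↔ ∃ r < C.nroots, RGDChev.vec C l r = a := isRoot_iff hp _ a

theorem Wm_simple (i : Fin l) : X.D.Wm (M.toCoxeterSystem.simple i) = sM C l i := by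
  refine (X.D.Wm_simple i).trans ?_
  show (1 : Matrix (Fin l) (Fin l) ℤ) - vecMulVec (cartanOf C l i) (sr i) = _
  ext a b
  simp only [sM, Matrix.of_apply, Matrix.sub_apply, Matrix.one_apply, vecMulVec_apply, sr, Pi.single_apply, mul_ite,
    mul_one, mul_zero]

/-- the matrix of a word -/
theorem Wm_word (L : List (Fin l)) : X.D.Wm (M.toCoxeterSystem.wordProd L) = (L.map (sM C l)).prod := by
  induction L with
  | nil =>
    rw [wordProd_nil]
    exact X.D.Wm_one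
  | cons i L ih =>
    rw [wordProd_cons, List.map_cons, List.prod_cons, ← ih, ← X.Wm_simple]
    exact X.D.Wm_mul _ _

theorem exists_word (w : X.D.W) : ∃ L : List (Fin l), w = M.toCoxeterSystem.wordProd L ∧
    X.D.Wm w = (L.map (sM C l)).prod := by
  obtain ⟨L, hL⟩ := M.toCoxeterSystem.wordProd_surjective w
  exact ⟨L, hL.symm, by rw [← hL]; exact X.Wm_word L⟩

theorem cor_sr (i : Fin l) : X.D.cor (sr i) = cartanOf C l i := X.D.cor_sr i

end XF

/-- `S` inside `G ^ F`, all automorphisms lifted. -/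
structure XS (X : XF hp p k Mx) (Adm : Matrix (Fin l) (Fin l) ℤ → Prop) (d : ℕ) (S : Type) [Group S] where
  ι : S →* ↥(C.group k)
  ov : Over X.F ⊤ (TT C k) ι d
  cop : d.Coprime p
  idx : Odd d → ov.hom.range.index ∣ d
  adm_one : Adm 1
  aut : ∀ σ : MulAut S, ∃ g ∈ GF X.F ⊤, ∃ α A, Au X.D α A ∧ Adm A ∧ ∀ s, ι (σ s) = g * α (ι s) * g⁻¹

namespace XS

variable {X : XF hp p k Mx} {Adm Adm' : Matrix (Fin l) (Fin l) ℤ → Prop} {d : ℕ} {S S' : Type} [Group S] [Group S']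
  (s : XS X Adm d S)

/-- the projection -/
noncomputable def π : ↥s.ι.range →* S := (MonoidHom.ofInjective s.ov.inj).symm.toMonoidHom

theorem ι_π (h : ↥s.ι.range) : s.ι (s.π h) = h := MonoidHom.apply_ofInjective_symm s.ov.inj h

theorem π_ι (a : S) : s.π ⟨s.ι a, a, rfl⟩ = a := s.ov.inj (s.ι_π _)

/-- **the situation** -/
noncomputable def sit : Sit X.D Adm S where
  qs := X.D_qs
  adm_one := s.adm_one
  H0 := s.ι.range
  le := by
    rintro _ ⟨a, rfl⟩
    exact s.ov.mem a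
  comm a ha b hb := s.ov.mem_range.1 (s.ov.comm_mem ⟨a, ha⟩ ⟨b, hb⟩)
  uni u hu h := by
    obtain ⟨j, hj⟩ := h
    have h1 : u ^ d ∈ s.ι.range := s.ov.mem_range.1 (s.ov.pow_mem ⟨u, hu⟩)
    obtain ⟨m, hm⟩ := exists_pow_eq_self_of_coprime (x := u) (n := d) (by rw [hj]; exact s.cop.pow_right j)
    rw [← hm]
    exact pow_mem h1 m
  π := s.π
  surj a := ⟨_, s.π_ι a⟩
  ker h := by
    constructor
    · intro h1 y _
      rw [← s.ι_π h, h1, map_one, mul_one, one_mul]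
    · intro h1
      have h2 : (h : ↥(C.group k)) ∈ Subgroup.center ↥(C.group k) :=
        Subgroup.mem_center_iff.2 fun y => h1 y trivial
      rw [H70.OutCount.center_eq_bot hp.inList, Subgroup.mem_bot] at h2
      apply s.ov.inj
      rw [s.ι_π, h2, map_one]
  aut σ := by
    obtain ⟨g, hg, α, A, h1, h2, h3⟩ := s.aut σ
    refine ⟨g, hg, α, A, h1, h2, fun h => ⟨⟨s.ι (σ (s.π h)), _, rfl⟩, ?_, s.π_ι _⟩⟩
    show s.ι (σ (s.π h)) = _
    rw [h3, s.ι_π]

theorem sit_π_inj : Function.Injective s.sit.π := (MonoidHom.ofInjective s.ov.inj).symm.injective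

/-- the kernel of `π` is trivial -/
theorem z1 [Fintype ↥(GF X.F ⊤)] (f : Fr X.D) (c : Lbl X.D) : s.sit.Z1 f c := by
  intro z hz w g
  have h : z = 1 := s.sit_π_inj (hz.trans (map_one _).symm)
  subst h
  exact congrArg _ (one_mul g)

theorem pow_mem {g : ↥(C.group k)} (hg : g ∈ GF X.F ⊤) : g ^ d ∈ s.sit.H0 :=
  s.ov.mem_range.1 (s.ov.pow_mem ⟨g, hg⟩)

/-- `G ^ F = H0` if `d = 1` -/
theorem H0_eq (s : XS X Adm 1 S) : s.sit.H0 = GF X.F ⊤ := s.ov.range_eq

/-- transport along an isomorphism -/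
noncomputable def congr (e : S' ≃* S) : XS X Adm d S' where
  ι := s.ι.comp e.toMonoidHom
  ov := s.ov.congr e
  cop := s.cop
  idx hd := by
    have h : (s.ov.congr e).hom.range = s.ov.hom.range := by
      ext g
      rw [Over.mem_range, Over.mem_range, MonoidHom.range_comp, MonoidHom.range_eq_top.2 e.surjective,
        ← MonoidHom.range_eq_map]
    rw [h]
    exact s.idx hd
  adm_one := s.adm_one
  aut σ := by
    obtain ⟨g, hg, α, A, h1, h2, h3⟩ := s.aut (MulAut.congr e σ)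
    refine ⟨g, hg, α, A, h1, h2, fun a => ?_⟩
    have h4 := h3 (e a)
    rw [MulAut.congr_apply, MulEquiv.trans_apply, MulEquiv.trans_apply, MulEquiv.symm_apply_apply] at h4
    exact h4

/-- a weaker predicate -/
def mono (h : ∀ A, Adm A → Adm' A) : XS X Adm' d S where
  ι := s.ι
  ov := s.ov
  cop := s.cop
  idx := s.idx
  adm_one := h _ s.adm_one
  aut σ := by
    obtain ⟨g, hg, α, A, h1, h2, h3⟩ := s.aut σ
    exact ⟨g, hg, α, A, h1, h _ h2, h3⟩

end XS

/-- There are a datum with the matrix `Mx` and a situation for `S`. -/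
def Has (hp : IsType C l M) (p : ℕ) [Fact p.Prime] (Mx : Matrix (Fin l) (Fin l) ℤ)
    (Adm : Matrix (Fin l) (Fin l) ℤ → Prop) (d : ℕ) (S : Type) [Group S] : Prop :=
  ∃ (k : Type) (_ : Field k) (_ : CharP k p) (_ : IsAlgClosed k) (X : XF hp p k Mx), Nonempty (XS X Adm d S)

theorem Has.congr {Adm : Matrix (Fin l) (Fin l) ℤ → Prop} {d : ℕ} {S S' : Type} [Group S] [Group S']
    (h : Has hp p Mx Adm d S) (e : S' ≃* S) : Has hp p Mx Adm d S' := by
  obtain ⟨k, _, _, _, X, ⟨s⟩⟩ := h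
  exact ⟨k, _, _, _, X, ⟨s.congr e⟩⟩

theorem Has.mono {Adm Adm' : Matrix (Fin l) (Fin l) ℤ → Prop} {d : ℕ} {S : Type} [Group S]
    (h : Has hp p Mx Adm d S) (h' : ∀ A, Adm A → Adm' A) : Has hp p Mx Adm' d S := by
  obtain ⟨k, _, _, _, X, ⟨s⟩⟩ := h
  exact ⟨k, _, _, _, X, ⟨s.mono h'⟩⟩

end Cfsg.Agent.KZ.DatX

private theorem dce_01f6e1331f6a : _root_.True := by
  try have : _root_.True := by simp only [_root_.Cfsg.Agent.KZ.DatX.sM.eq_1]
  try have : _root_.True := by simp only [_root_.Cfsg.Agent.KZ.DatX.pm.eq_1]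
  exact _root_.True.intro
end

-- part: KZ/DatX/Gd
section
prune_inst 0x24007404042200000000000060003f66e2000190002b800141000b4406802f0300008720343012080150326c0030004811100050421000000a000200411800800002140450810c00000000008804400000000000000000000000000000000000000000000
set_option linter.all false
open scoped Cfsg.Agent.FastGrp

/-!
# KZ, the exceptional groups: automorphisms of the frame, the split groups (helper84)

* `Gd hp p α π x` : `α` permutes the positive root groups and sends `x_(± i) t` to `x_(± π i) (t ^ p ^ x i)`;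
* `Gd.au` : such an automorphism is an `Au` with the matrix `pm p π x`; `xfG` : the datum of such an automorphism;
* `xs_split` : the split groups.
-/

set_option autoImplicit false
set_option linter.unusedSectionVars false

namespace Cfsg.Agent.KZ.DatX

open CoxeterSystem Cfsg Cfsg.Lie Cfsg.Lie.ChevalleyDatum Matrix
open Cfsg.Agent.ChevalleyStructure Cfsg.Agent.ChevalleyStructure.Elts Cfsg.Agent.ChevalleyStructure.CoxeterGeom
  Cfsg.Agent.ChevalleyStructure.CoxeterGeomTypes Cfsg.Agent.ChevalleyStructure.NPerm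
open Cfsg.Agent.Tits.Roots Cfsg.Agent.Nodes Cfsg.Agent.Nodes.RGDChev Cfsg.Agent.Nodes.BNOf
open Cfsg.Agent.KFacts.RgdChevCoord Cfsg.Agent.BpExc.TowChev Cfsg.Agent.GpExc.Field Cfsg.Agent.BpExc
  Cfsg.Agent.BpExc.TorChev
open Cfsg.Agent.DL Cfsg.Agent.DL.Ex Cfsg.Agent.DL.PP Cfsg.Agent.DL.Uni Cfsg.Agent.KZ.Lie

variable {C : ChevalleyDatum} {l : ℕ} {M : CoxeterMatrix (Fin l)}

/-- every positive root is the image of a positive root -/
def Onto (C : ChevalleyDatum) (l : ℕ) (b : ℕ → ℕ) : Prop :=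
  ∀ s < C.nroots, (∀ i, 0 ≤ RGDChev.vec C l s i) → ∃ r < C.nroots, (∀ i, 0 ≤ RGDChev.vec C l r i) ∧ b r = s

instance decOnto (C : ChevalleyDatum) (l : ℕ) (b : ℕ → ℕ) : Decidable (Onto C l b) := by
  unfold Onto; infer_instance

/-- An automorphism which permutes the root groups. -/
structure Gd (hp : IsType C l M) (p : ℕ) {k : Type} [Field k] (α : MulAut ↥(C.group k)) (π : Equiv.Perm (Fin l))
    (x : Fin l → ℕ) where
  b : ℕ → ℕ
  e : ℕ → ℕ
  ε : ℕ → ℤ
  acts : Acts hp.inList p 0 α b e ε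
  tab : Tab C l b e ε π
  onto : Onto C l b
  ex : ∀ i : Fin l, e (C.simple i) = x i

variable {hp : IsType C l M} {p : ℕ} [Fact p.Prime] {k : Type} [Field k] [CharP k p]
  {α β : MulAut ↥(C.group k)} {π π' : Equiv.Perm (Fin l)} {x x' : Fin l → ℕ}

namespace Gd

theorem pos (G : Gd hp p α π x) (i : Fin l) (t : k) :
    α (xr hp.inList (C.simple i) t) = xr hp.inList (C.simple (π i)) (t ^ p ^ x i) := by
  obtain ⟨h1, -, h3, -, -⟩ := G.tab.2 i
  rw [G.acts _ (simple_lt hp.inList (lt_rank hp i)), h1, h3, G.ex, Int.cast_one, one_mul, zero_add]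

theorem neg (G : Gd hp p α π x) (i : Fin l) (t : k) :
    α (xr hp.inList (C.neg (C.simple i)) t) = xr hp.inList (C.neg (C.simple (π i))) (t ^ p ^ x i) := by
  obtain ⟨-, h2, -, h4, h5⟩ := G.tab.2 i
  rw [G.acts _ (neg_lt hp.inList (simple_lt hp.inList (lt_rank hp i))), h2, h4, h5, G.ex, Int.cast_one, one_mul,
    zero_add]

/-- products -/
def mul (G : Gd hp p α π x) (H : Gd hp p β π' x') : Gd hp p (α * β) (π * π') fun i => x' i + x (π' i) where
  b r := G.b (H.b r)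
  e r := H.e r + G.e (H.b r)
  ε r := G.ε (H.b r) * H.ε r
  acts r hr t := by
    rw [MulAut.mul_apply, H.acts r hr, G.acts _ (H.tab.1 r hr).1, mul_pow, int_pow, ← mul_assoc, ← Int.cast_mul,
      ← pow_mul, ← pow_add, zero_add, zero_add, zero_add]
  tab := by
    refine ⟨fun r hr => ?_, fun i => ?_⟩
    · obtain ⟨h1, h2, h3⟩ := H.tab.1 r hr
      obtain ⟨h4, h5, h6⟩ := G.tab.1 _ h1
      exact ⟨h4, by beta_reduce; rw [mul_mul_mul_comm, h2, h5, one_mul], fun h => h6 (h3 h)⟩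
    · obtain ⟨h1, h2, h3, h4, h5⟩ := H.tab.2 i
      obtain ⟨h6, h7, h8, h9, h10⟩ := G.tab.2 (π' i)
      refine ⟨?_, ?_, ?_, ?_, ?_⟩ <;> beta_reduce
      · rw [h1, h6]; rfl
      · rw [h2, h7]; rfl
      · rw [h1, h3, h8, one_mul]
      · rw [h2, h4, h9, one_mul]
      · rw [h1, h2, h5, h10]
  onto s hs h := by
    obtain ⟨r, hr, h1, rfl⟩ := G.onto s hs h
    obtain ⟨r', hr', h2, rfl⟩ := H.onto r hr h1
    exact ⟨r', hr', h2, rfl⟩
  ex i := by rw [H.ex, (H.tab.2 i).1, G.ex]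

/-- change of the description -/
def cast (G : Gd hp p α π x) (h1 : π = π') (h2 : x = x') : Gd hp p α π' x' :=
  ⟨G.b, G.e, G.ε, G.acts, h1 ▸ G.tab, G.onto, h2 ▸ G.ex⟩

variable [IsAlgClosed k]

variable (hp p k) in
/-- the Frobenius maps -/
def frob (j : ℕ) : Gd hp p (frobA (k := k) hp.inList p j) 1 fun _ => j where
  b := id
  e _ := j
  ε _ := 1
  acts r _ t := by rw [frobA_xr, Int.cast_one, one_mul, zero_add]; rfl
  tab := ⟨fun _ hr => ⟨hr, one_mul _, id⟩, fun _ => ⟨rfl, rfl, rfl, rfl, rfl⟩⟩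
  onto s hs h := ⟨s, hs, h, rfl⟩
  ex _ := rfl

theorem comm_frob (G : Gd hp p α π x) (j : ℕ) (y : ↥(C.group k)) :
    α (frobA hp.inList p j y) = frobA hp.inList p j (α y) := by
  have h : α * frobA hp.inList p j = frobA hp.inList p j * α := by
    refine xr_aut_ext hp.inList fun r hr t => ?_
    rw [MulAut.mul_apply, MulAut.mul_apply, frobA_xr, G.acts r hr, G.acts r hr, frobA_xr, mul_pow, int_pow, ← pow_mul,
      ← pow_mul, mul_comm (p ^ j)]
  exact DFunLike.congr_fun h y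

theorem tau_eq (G : Gd hp p α π x) (c : Fin l → kˣ) : α (tau hp c) = tau hp (mon (pm p π x) c) := by
  rw [G.acts.tau hp G.tab]
  congr 1
  funext i
  have h : pm p π x i = Pi.single (π.symm i) ((p : ℤ) ^ x (π.symm i)) := by
    funext j
    rw [pm, Matrix.of_apply, Pi.single_apply]
    by_cases hj : j = π.symm i
    · rw [if_pos hj, if_pos (by rw [hj, Equiv.apply_symm_apply]), hj]
    · rw [if_neg hj, if_neg fun h => hj (by rw [h, Equiv.symm_apply_apply])]
  rw [mon_apply, h, Ex.chr_single, zero_add, G.ex, ← Nat.cast_pow, zpow_natCast]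

theorem exists_root (a : kˣ) (n : ℕ) : ∃ b : kˣ, b ^ p ^ n = a := by
  obtain ⟨b, hb⟩ := IsAlgClosed.exists_pow_nat_eq (a : k) (n := p ^ n) (pow_pos (Fact.out : p.Prime).pos n)
  have h0 : b ≠ 0 := by
    rintro rfl
    rw [zero_pow (pow_pos (Fact.out : p.Prime).pos n).ne'] at hb
    exact a.ne_zero hb.symm
  exact ⟨Units.mk0 b h0, Units.ext hb⟩

theorem memT (G : Gd hp p α π x) (y : ↥(C.group k)) : α y ∈ TT C k ↔ y ∈ TT C k := by
  refine ⟨fun h => ?_, G.acts.TT hp G.tab⟩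
  obtain ⟨c', hc'⟩ := (mem_TT_iff hp _).1 h
  choose c hc using fun j => exists_root (p := p) (c' (π j)) (0 + G.e (C.simple j))
  have h1 : α (tau hp c) = α y := by
    rw [G.acts.tau hp G.tab, ← hc']
    congr 1
    funext i
    rw [hc, Equiv.apply_symm_apply]
  rw [← α.injective h1]
  exact tau_mem hp c

theorem memU (G : Gd hp p α π x) (y : ↥(C.group k)) :
    α y ∈ RGD.Sup (XX C l k) (RGD.Pos M.toCoxeterSystem hp.isCartan) ↔
      y ∈ RGD.Sup (XX C l k) (RGD.Pos M.toCoxeterSystem hp.isCartan) := by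
  have rt : ∀ r < C.nroots, IsRoot M.toCoxeterSystem hp.isCartan (RGDChev.vec C l r) := fun r hr =>
    (isRoot_iff hp _ _).2 ⟨r, hr, rfl⟩
  constructor
  · intro h
    have h1 : RGD.Sup (XX C l k) (RGD.Pos M.toCoxeterSystem hp.isCartan) ≤
        (RGD.Sup (XX C l k) (RGD.Pos M.toCoxeterSystem hp.isCartan)).map α.toMonoidHom := by
      refine RGD.Sup_le ?_
      rintro a ⟨ha, h0⟩ z hz
      obtain ⟨s, hs, rfl⟩ := (isRoot_iff hp _ a).1 ha
      obtain ⟨r, hr, h2, rfl⟩ := G.onto s hs h0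
      obtain ⟨u, rfl⟩ := (HX.mem_XX_xc hp hs).1 hz
      obtain ⟨t, ht⟩ := IsAlgClosed.exists_pow_nat_eq ((G.ε r : k) * u) (n := p ^ (0 + G.e r))
        (pow_pos (Fact.out : p.Prime).pos _)
      refine ⟨xc hp (RGDChev.vec C l r) t, RGD.le_Sup (S := RGD.Pos M.toCoxeterSystem hp.isCartan) ⟨rt r hr, h2⟩
        ((HX.mem_XX_xc hp hr).2 ⟨t, rfl⟩), ?_⟩
      show α _ = _
      rw [G.acts.xc hp G.tab hr, ht, ← mul_assoc, ← Int.cast_mul, (G.tab.1 r hr).2.1, Int.cast_one, one_mul]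
    obtain ⟨z, hz, e⟩ := h1 h
    rwa [← α.injective e]
  · intro h
    have h1 : RGD.Sup (XX C l k) (RGD.Pos M.toCoxeterSystem hp.isCartan) ≤
        (RGD.Sup (XX C l k) (RGD.Pos M.toCoxeterSystem hp.isCartan)).comap α.toMonoidHom := by
      refine RGD.Sup_le ?_
      rintro a ⟨ha, h0⟩ z hz
      obtain ⟨r, hr, rfl⟩ := (isRoot_iff hp _ a).1 ha
      obtain ⟨u, rfl⟩ := (HX.mem_XX_xc hp hr).1 hz
      obtain ⟨h2, -, h3⟩ := G.tab.1 r hr
      rw [Subgroup.mem_comap, MulEquiv.coe_toMonoidHom, G.acts.xc hp G.tab hr]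
      exact RGD.le_Sup (S := RGD.Pos M.toCoxeterSystem hp.isCartan) ⟨rt _ h2, h3 h0⟩ ((HX.mem_XX_xc hp h2).2 ⟨_, rfl⟩)
    exact h1 h

/-- **an automorphism of the frame** -/
theorem au (G : Gd hp p α π x) {Mx : Matrix (Fin l) (Fin l) ℤ} (X : XF hp p k Mx) (h : ∀ y, α (X.F y) = X.F (α y)) :
    Au X.D α (pm p π x) :=
  ⟨h, fun _ => Iff.rfl, G.memT, G.memU, G.tau_eq⟩

end Gd

variable [IsAlgClosed k]

/-- the datum of an automorphism which permutes the root groups -/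
noncomputable def xfG (hk : LocFin k) (amb : Amb p (C.group k).subtype α) (G : Gd hp p α π x)
    {Mx : Matrix (Fin l) (Fin l) ℤ} (h : pm p π x = Mx) : XF hp p k Mx where
  hk := hk
  F := α
  amb := amb
  g a := RGDChev.vec C l (G.b (idx C l a))
  ex a := 0 + G.e (idx C l a)
  g_root := G.tab.g_root hp _
  F_x := G.acts.F_x hp G.tab _
  F_τ := h ▸ G.tau_eq
  qs := G.tab.g_pos hp _

variable (hp p) in
/-- the split datum -/
noncomputable def xfS (hk : LocFin k) {e : ℕ} (he : 0 < e) : XF hp p k ((p : ℤ) ^ e • 1) :=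
  xfG hk (amb_of_isFrob hk he (isFrob_frobA hp.inList p e)) (Gd.frob hp p k e) (by rw [pm_const, pm_one])

/-! ### the finite groups -/

section Fin

variable {F : Type} [Field F]

/-- an automorphism of a finite field is a power of the Frobenius map -/
theorem exists_frob (p : ℕ) [Fact p.Prime] [Fintype F] [CharP F p] (τ : F ≃+* F) :
    ∃ j : ℕ, ∀ a : F, τ a = a ^ p ^ j := by
  let _ : Algebra (ZMod p) F := ZMod.algebra F p
  have hcomm : (τ : F →+* F).comp (algebraMap (ZMod p) F) = algebraMap (ZMod p) F := Subsingleton.elim _ _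
  let τ' : F →ₐ[ZMod p] F := { (τ : F →+* F) with commutes' := fun r => RingHom.congr_fun hcomm r }
  obtain ⟨j, hj⟩ := (FiniteField.bijective_frobeniusAlgHom_pow (ZMod p) F).2 τ'
  refine ⟨j, fun a => ?_⟩
  have h1 : ∀ (n : ℕ) (y : F), ((FiniteField.frobeniusAlgHom (ZMod p) F) ^ n) y = y ^ p ^ n := by
    intro n y
    induction n generalizing y with
    | zero => simp
    | succ n ih =>
      rw [pow_succ, AlgHom.mul_apply, ih]
      simp [pow_succ, mul_comm, ← pow_mul]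
  have h2 : τ' a = τ a := rfl
  rw [← h2, ← hj]
  exact h1 _ a

variable (f : F →+* k)

/-- entrywise field automorphisms -/
theorem frob_eq {τ : F ≃+* F} {j : ℕ} (hj : ∀ a, τ a = a ^ p ^ j) {y z : ↥(C.group k)} {g : GL C.Idx F}
    (hy : (y : GL C.Idx k) = glMap C f g) (hz : (z : GL C.Idx k) = glMap C f (ChevStructure.FieldMap.glEquiv C τ g)) :
    z = frobA hp.inList p j y := by
  apply Subtype.ext
  apply Units.ext
  rw [hz, frobA_apply, coe_emb, hy, coe_glMap, coe_glMap, coe_glMap, ChevStructure.FieldMap.glEquiv_coe]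
  ext a b
  rw [Matrix.map_apply, Matrix.map_apply, Matrix.map_apply, Matrix.map_apply, hj, map_pow, iterateFrobenius_def]

theorem lift_field [Fintype F] [CharP F p] {φ : MulAut ↥(C.group F)} (h : C.IsFieldAut φ) :
    ∃ j, ∀ y, emb hp.inList f (φ y) = frobA hp.inList p j (emb hp.inList f y) := by
  obtain ⟨τ, hτ⟩ := h
  obtain ⟨j, hj⟩ := exists_frob p τ
  have h1 : (emb hp.inList f).comp φ.toMonoidHom = (frobA hp.inList p j).toMonoidHom.comp (emb hp.inList f) := by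
    refine xr_hom_ext hp.inList fun r hr t => ?_
    have h2 : φ (xr hp.inList r t) = xr hp.inList r (τ t) := H79.SimpleGen.field_apply hp.inList hτ hr t
    show emb hp.inList f (φ _) = frobA hp.inList p j (emb hp.inList f _)
    rw [h2, emb_xr, emb_xr, frobA_xr, hj, map_pow]
  exact ⟨j, fun y => DFunLike.congr_fun h1 y⟩

theorem hom_ext' {H : Type*} [Group H] {a b : ↥(C.group F) →* H}
    (h1 : ∀ (i : Fin l) (t : F), a (xr hp.inList (C.simple i) t) = b (xr hp.inList (C.simple i) t))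
    (h2 : ∀ (i : Fin l) (t : F), a (xr hp.inList (C.neg (C.simple i)) t) = b (xr hp.inList (C.neg (C.simple i)) t)) :
    a = b :=
  H79.SimpleGen.hom_ext hp.inList a b (fun i hi t => h1 ⟨i, hp.rank_eq ▸ hi⟩ t) fun i hi t => h2 ⟨i, hp.rank_eq ▸ hi⟩ t

theorem lift_diag {d : MulAut ↥(C.group F)} (h : C.IsDiagonalAut d) :
    ∃ c : Fin l → Fˣ, ∀ y, emb hp.inList f (d y) =
      tau hp (fun i => Units.map (f : F →* k) (c i)) * emb hp.inList f y *
        (tau hp fun i => Units.map (f : F →* k) (c i))⁻¹ := by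
  obtain ⟨c, hc⟩ := (H79.DiagAuts.diagFacts hp.inList F).exists_c d h
  refine ⟨fun i => c ⟨i, lt_rank hp i⟩, fun y => ?_⟩
  have h1 : (emb hp.inList f).comp d.toMonoidHom =
      (MulAut.conj (tau hp fun i => Units.map (f : F →* k) (c ⟨i, lt_rank hp i⟩))).toMonoidHom.comp
        (emb hp.inList f) := by
    refine hom_ext' (hp := hp) (fun i t => ?_) fun i t => ?_
    · have h2 : d (xr hp.inList (C.simple i) t) = xr hp.inList (C.simple i) (_ * t) := (hc ⟨i, lt_rank hp i⟩ t).1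
      have hi := simple_lt hp.inList (lt_rank hp i)
      show emb hp.inList f (d _) = _ * emb hp.inList f _ * _
      rw [h2, emb_xr, emb_xr, ← xc_vec hp hi, ← xc_vec hp hi, vec_simple hp,
        tau_conj hp M.toCoxeterSystem (isRoot_sr _ _ i), chr_sr, map_mul]
      rfl
    · have h2 : d (xr hp.inList (C.neg (C.simple i)) t) = xr hp.inList (C.neg (C.simple i)) (_ * t) :=
        (hc ⟨i, lt_rank hp i⟩ t).2
      have hi := simple_lt hp.inList (lt_rank hp i)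
      show emb hp.inList f (d _) = _ * emb hp.inList f _ * _
      rw [h2, emb_xr, emb_xr, ← xc_vec hp (neg_lt hp.inList hi), ← xc_vec hp (neg_lt hp.inList hi), vec_neg hp hi,
        vec_simple hp, tau_conj hp M.toCoxeterSystem (isRoot_sr _ _ i).neg, Ex.chr_neg, chr_sr, map_mul, ← map_inv]
      rfl
  exact DFunLike.congr_fun h1 y

theorem lift_graph {g : MulAut ↥(C.group F)} {ρ : Equiv.Perm (Fin C.rank)} {n : Fin C.rank → ℕ}
    (h : H79.OutChev.IsGr hp.inList ρ n g) (G : Gd hp p α π x)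
    (h1 : ∀ i : Fin l, (ρ ⟨i, lt_rank hp i⟩ : ℕ) = π i ∧ n ⟨i, lt_rank hp i⟩ = p ^ x i) (y : ↥(C.group F)) :
    emb hp.inList f (g y) = α (emb hp.inList f y) := by
  have h2 : (emb hp.inList f).comp g.toMonoidHom = α.toMonoidHom.comp (emb hp.inList f) := by
    refine hom_ext' (hp := hp) (fun i t => ?_) fun i t => ?_
    · have h3 : g (xr hp.inList (C.simple i) t) = xr hp.inList (C.simple (ρ ⟨i, lt_rank hp i⟩)) _ :=
        (h ⟨i, lt_rank hp i⟩ t).1
      show emb hp.inList f (g _) = α (emb hp.inList f _)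
      rw [h3, emb_xr, emb_xr, G.pos, (h1 i).1, (h1 i).2, map_pow]
    · have h3 : g (xr hp.inList (C.neg (C.simple i)) t) = xr hp.inList (C.neg (C.simple (ρ ⟨i, lt_rank hp i⟩))) _ :=
        (h ⟨i, lt_rank hp i⟩ t).2
      show emb hp.inList f (g _) = α (emb hp.inList f _)
      rw [h3, emb_xr, emb_xr, G.neg, (h1 i).1, (h1 i).2, map_pow]
  exact DFunLike.congr_fun h2 y

variable (hp p k) in
/-- every graph automorphism over `F` has a lift with a matrix in `L` -/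
def GrL (F : Type) [Field F] (L : List (Matrix (Fin l) (Fin l) ℤ)) : Prop :=
  ∀ (g : MulAut ↥(C.group F)) (ρ : Equiv.Perm (Fin C.rank)), C.IsDiagramSymmetry ρ →
    H79.OutChev.IsGr hp.inList ρ (fun i => C.graphExp (ringChar F) i (ρ i)) g →
    ∃ (α : MulAut ↥(C.group k)) (π : Equiv.Perm (Fin l)) (x : Fin l → ℕ), Nonempty (Gd hp p α π x) ∧ pm p π x ∈ L ∧
      ∀ i : Fin l, (ρ ⟨i, lt_rank hp i⟩ : ℕ) = π i ∧ C.graphExp (ringChar F) i (π i) = p ^ x i

/-- **the split groups** -/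
noncomputable def xsS [Fintype F] [CharP F p] (hk : LocFin k) {e : ℕ} (he : 0 < e) (hF : Fintype.card F = p ^ e) {d : ℕ}
    (O : Over (frobA hp.inList p e) ⊤ (TT C k) (emb hp.inList f) d) (cop : d.Coprime p)
    (idx : Odd d → O.hom.range.index ∣ d) {L : List (Matrix (Fin l) (Fin l) ℤ)} (h1 : 1 ∈ L) (hL : GrL hp p k F L) :
    XS (xfS hp p hk he) (AdmL p L) d ↥(C.group F) where
  ι := emb hp.inList f
  ov := O
  cop := cop
  idx := idx
  adm_one := ⟨0, 1, h1, by rw [pow_zero, one_smul]⟩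
  aut σ := by
    obtain ⟨a, δ, g, φ, hd, hg, hφ, h⟩ := H79.Steinberg.exists_fac hp.inList σ
    obtain ⟨j, hj⟩ := lift_field (hp := hp) (p := p) f hφ
    obtain ⟨c, hc⟩ := lift_diag (hp := hp) f hd
    obtain ⟨ρ, hρ, hg⟩ := H79.OutChev.isGraphAut_isGr hp.inList hg
    obtain ⟨α, π, x, ⟨G⟩, h2, h3⟩ := hL g ρ hρ hg
    have h4 := lift_graph f hg G fun i => ⟨(h3 i).1, by rw [(h3 i).1]; exact (h3 i).2⟩
    have ht : tau hp (fun i => Units.map (f : F →* k) (c i)) ∈ GF (frobA hp.inList p e) (TT C k) :=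
      (tau_mem_GF hp).2 (funext fun i => map_pow_eq f hF (c i))
    refine ⟨emb hp.inList f a * tau hp fun i => Units.map (f : F →* k) (c i), mul_mem (O.mem a) (O.TF_le ht),
      α * frobA hp.inList p j, _, (G.mul (Gd.frob hp p k j)).au _ ((G.mul (Gd.frob hp p k j)).comm_frob e), ?_,
      fun s => ?_⟩
    · exact ⟨j, _, h2, (congrArg (fun σ => pm p σ fun i => j + x i) (mul_one π)).trans (pm_add p π j x)⟩
    · rw [h, map_mul, map_mul, map_inv, hc, h4, hj, MulAut.mul_apply]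
      group

/-- **groups with field automorphisms only** -/
noncomputable def xsT (hk : LocFin k) (amb : Amb p (C.group k).subtype α) (G : Gd hp p α π x)
    {Mx : Matrix (Fin l) (Fin l) ℤ} (h : pm p π x = Mx) {S : Type} [Group S] {ι : S →* ↥(C.group k)} {d : ℕ}
    (O : Over α ⊤ (TT C k) ι d) (cop : d.Coprime p) (idx : Odd d → O.hom.range.index ∣ d)
    (aut : ∀ σ : MulAut S, ∃ g, α g = g ∧ ∃ j, ∀ s, ι (σ s) = g * frobA hp.inList p j (ι s) * g⁻¹) :
    XS (xfG hk amb G h) (AdmF p) d S where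
  ι := ι
  ov := O
  cop := cop
  idx := idx
  adm_one := ⟨0, by rw [pow_zero, one_smul]⟩
  aut σ := by
    obtain ⟨g, hg, j, hj⟩ := aut σ
    exact ⟨g, ⟨trivial, hg⟩, _, _, (Gd.frob hp p k j).au _ fun y => (G.comm_frob j y).symm,
      ⟨j, by rw [pm_const, pm_one]⟩, hj⟩

end Fin

end Cfsg.Agent.KZ.DatX

private theorem dce_5574057b3d80 : _root_.True := by
  try have : _root_.True := by simp only [_root_.Cfsg.Agent.DL.Ex.frobA.congr_simp]
  exact _root_.True.intro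
end

-- part: TO/X/Conn
section
prune_inst 0x40000000000000000000000000000000000000000000000102000000102102089022800080008021820000000010000000000000000000000000000000001200020000081080100000000803000000000000000000000000000000000041000000000000
set_option linter.all false
open scoped Cfsg.Agent.FastGrp

-- part: TO/X/ConnA
section
/-!
# S4817, exceptional groups: point stabilisers in the affine Weyl group (helper39)

Any datum `D`.  `co D β` is the linear form of the element `∑ β i • αᵢ^∨` of the coroot lattice.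

* `Af D n l` : the elements which fix `l` modulo `n` times the coroot lattice;
* `gen` : the affine Weyl group acts freely on generic points;
* `stab` : the stabiliser of a point is generated by reflections;
* `ppr_W` : an element of order prime to the orders of the values is a product of reflections.
-/

set_option autoImplicit false
set_option linter.unusedSectionVars false

namespace Cfsg.Agent.TO.X.Cn

open CoxeterSystem Cfsg.Agent.ChevalleyStructure.CoxeterGeom Cfsg.Agent.Tits.Roots Cfsg.Agent.Nodes.Reps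
  Cfsg.Agent.Nodes.BNOf Cfsg.Agent.Nodes.Coroot Cfsg.Agent.Nodes.Slope Matrix Cfsg.Agent.DL Cfsg.Agent.DL.PP

variable {r : ℕ} [Fact r.Prime] {k : Type} [Field k] [CharP k r] {Y : Type} [Group Y] {N : Type} [Fintype N]
  [DecidableEq N] {ρ : Y →* GL N k} {F : MulAut Y} {G : Subgroup Y} (D : Datum r ρ F G)

/-- the linear form of an element of the coroot lattice -/
def co (β : D.I → ℤ) : (D.I → ℤ) →+ ℤ where
  toFun a := ∑ i, β i * pairing D.A i a
  map_zero' := by simp only [pairing, _root_.Pi.zero_apply, _root_.MulZeroClass.mul_zero, _root_.Finset.sum_const_zero]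
  map_add' a b := by simp only [pairing_add, mul_add, Finset.sum_add_distrib]

theorem co_apply (β a : D.I → ℤ) : co D β a = ∑ i, β i * pairing D.A i a := rfl

theorem co_zero (a : D.I → ℤ) : co D 0 a = 0 := by simp only [co_apply, _root_.Pi.zero_apply, _root_.MulZeroClass.zero_mul, _root_.Finset.sum_const_zero]

theorem co_add (β γ a : D.I → ℤ) : co D (β + γ) a = co D β a + co D γ a := by
  simp only [co_apply, Pi.add_apply, add_mul, Finset.sum_add_distrib]

theorem co_sub (β γ a : D.I → ℤ) : co D (β - γ) a = co D β a - co D γ a := by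
  simp only [co_apply, Pi.sub_apply, sub_mul, Finset.sum_sub_distrib]

theorem co_smul (m : ℤ) (β a : D.I → ℤ) : co D (m • β) a = m * co D β a := by
  simp only [co_apply, Pi.smul_apply, smul_eq_mul, Finset.mul_sum, mul_assoc]

theorem co_sr (i : D.I) (a : D.I → ℤ) : co D (sr i) a = pairing D.A i a := by
  rw [co_apply, Finset.sum_eq_single i (fun j _ hj => by rw [sr_ne hj, zero_mul]) fun h => absurd (Finset.mem_univ i) h,
    sr_self, one_mul]

theorem act_simple (l : (D.I → ℤ) →+ ℤ) (w : D.W) (i : D.I) (a : D.I → ℤ) :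
    l (D.act (w * D.cs.simple i) a) = l (D.act w a) - l (D.act w (sr i)) * pairing D.A i a := by
  rw [CF.act_mul, Datum.act, Datum.act, rep_simple_eq, map_sub, map_zsmul, map_sub, map_zsmul, smul_eq_mul, mul_comm]

theorem exists_co (l : (D.I → ℤ) →+ ℤ) (u : D.W) : ∃ β, ∀ a, l (D.act u a) = l a + co D β a := by
  induction u using D.cs.simple_induction_right with
  | one => exact ⟨0, fun a => by rw [CF.act_one, co_zero, add_zero]⟩
  | mul_simple_right w i ih =>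
    obtain ⟨β, hβ⟩ := ih
    exact ⟨β - l (D.act w (sr i)) • sr i, fun a => by rw [act_simple, hβ a, co_sub, co_smul, co_sr, add_sub_assoc]⟩

theorem exists_cp {c : D.I → ℤ} (hc : D.Rt c) : ∃ β, ∀ b, cp D b c = co D β b := by
  obtain ⟨w, i, rfl⟩ := hc
  obtain ⟨β, hβ⟩ := exists_co D (co D (sr i)) w⁻¹
  exact ⟨sr i + β, fun b => by rw [cp, cpr_rep_sr, co_add, ← hβ, co_sr]⟩

theorem two_sumZ (l : (D.I → ℤ) →+ ℤ) {a : D.I → ℤ} (ha : D.Rt a) :
    2 * ∑ c ∈ Phi D, cp D c a * l c = (∑ c ∈ Phi D, cp D c a ^ 2) * l a := by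
  have h2 := two_sum D ((Int.castAddHom ℝ).comp l) ha
  simp only [AddMonoidHom.comp_apply, Int.coe_castAddHom] at h2
  exact_mod_cast h2

/-- a minuscule element of the coroot lattice vanishes -/
theorem co_eq_zero (β : D.I → ℤ) (h : ∀ a, D.Rt a → |co D β a| ≤ 1) (a : D.I → ℤ) : co D β a = 0 := by
  induction hn : ∑ i, (β i).natAbs using Nat.strong_induction_on generalizing β a with
  | _ n ih =>
  by_contra h0
  obtain ⟨j, hj⟩ : ∃ j, co D β (sr j) ≠ 0 := by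
    by_contra h1
    push Not at h1
    exact h0 (by rw [D.map_eq_sum]; simp only [h1, _root_.MulZeroClass.mul_zero, _root_.Finset.sum_const_zero])
  have h1 : 0 < ∑ c ∈ Phi D, co D β c ^ 2 :=
    Finset.sum_pos' (fun _ _ => sq_nonneg _) ⟨sr j, (mem_Phi D).2 (isRoot_sr _ _ j), by (clear * - hj; positivity)⟩
  have h2 : 2 * ∑ c ∈ Phi D, co D β c ^ 2 = ∑ i, β i * ((∑ c ∈ Phi D, cp D c (sr i) ^ 2) * co D β (sr i)) := by
    have h3 : ∀ c, co D β c ^ 2 = ∑ i, β i * (cp D c (sr i) * co D β c) := fun c => by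
      rw [pow_two]
      nth_rewrite 1 [co_apply]
      rw [Finset.sum_mul]
      exact Finset.sum_congr rfl fun i _ => by rw [cp, cpr_sr, mul_assoc]
    rw [Finset.sum_congr rfl fun c _ => h3 c, Finset.sum_comm, Finset.mul_sum]
    exact Finset.sum_congr rfl fun i _ => by
      rw [← two_sumZ D _ (isRoot_sr _ _ i), ← Finset.mul_sum, mul_left_comm]
  obtain ⟨i, -, hi⟩ := Finset.exists_lt_of_sum_lt (s := Finset.univ) (f := fun _ => (0 : ℤ))
    (g := fun i => β i * ((∑ c ∈ Phi D, cp D c (sr i) ^ 2) * co D β (sr i))) (by rw [← h2]; simpa only [_root_.Finset.sum_const_zero, _root_.Order.lt_two_iff, _root_.zero_le_one, _root_.mul_pos_iff_of_pos_left] using h1)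
  have hr := isRoot_sr D.cs D.h i
  have h5 : 0 < β i * co D β (sr i) := by
    rw [mul_left_comm] at hi
    exact (mul_pos_iff_of_pos_left (sum_sq_pos D hr)).1 hi
  have h6 := abs_le.1 (h _ hr)
  have h7 : ∀ b, co D (β - co D β (sr i) • sr i) b = co D β (D.act (D.cs.simple i) b) := fun b => by
    have h8 := act_simple D (co D β) 1 i b
    rw [one_mul, CF.act_one, CF.act_one] at h8
    rw [h8, co_sub, co_smul, co_sr]
  have h8 := ih _ ?_ (β - co D β (sr i) • sr i) (fun b hb => by rw [h7]; exact h _ (hb.act _))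
    (D.act (D.cs.simple i)⁻¹ a) rfl
  · rw [h7, act_act_inv] at h8
    exact h0 h8
  rw [← hn]
  have h9 : ((β - co D β (sr i) • sr i) i).natAbs < (β i).natAbs := by
    simp only [Pi.sub_apply, Pi.smul_apply, sr_self, smul_eq_mul, mul_one]
    generalize co D β (sr i) = x at h5 h6
    rcases lt_trichotomy x 0 with h8 | h8 | h8
    · have : β i < 0 := by nlinarith only [h5, h8]
      omega
    · rw [h8] at h5
      omega
    · have : 0 < β i := by nlinarith only [h5, h8]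
      omega
  refine Finset.sum_lt_sum (fun j _ => ?_) ⟨i, Finset.mem_univ _, h9⟩
  by_cases hj : j = i
  · exact hj ▸ h9.le
  · simp [sr_ne hj]

/-- the elements which fix `l` modulo `n` times the coroot lattice -/
def Af (n : ℤ) (l : (D.I → ℤ) →+ ℤ) : Subgroup D.W where
  carrier := {u | ∃ β, ∀ a, l (D.act u a) = l a + n * co D β a}
  one_mem' := ⟨0, fun a => by rw [CF.act_one, co_zero, mul_zero, add_zero]⟩
  mul_mem' := by
    rintro u v ⟨β, hβ⟩ ⟨γ, hγ⟩
    obtain ⟨δ, hδ⟩ := exists_co D (co D β) v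
    exact ⟨β + γ + δ, fun a => by rw [CF.act_mul, hβ, hγ, hδ, co_add, co_add]; ring⟩
  inv_mem' := by
    rintro u ⟨β, hβ⟩
    obtain ⟨δ, hδ⟩ := exists_co D (co D β) u⁻¹
    refine ⟨0 - β - δ, fun a => ?_⟩
    have h1 := hβ (D.act u⁻¹ a)
    rw [act_act_inv, hδ] at h1
    rw [co_sub, co_sub, co_zero, h1]
    ring

theorem mem_Af {n : ℤ} {l : (D.I → ℤ) →+ ℤ} {u : D.W} :
    u ∈ Af D n l ↔ ∃ β, ∀ a, l (D.act u a) = l a + n * co D β a := Iff.rfl

theorem rf_mem_Af {n : ℤ} {l : (D.I → ℤ) →+ ℤ} {a : D.I → ℤ} (ha : D.Rt a) (h : n ∣ l a) : D.rf a ∈ Af D n l := by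
  obtain ⟨m, hm⟩ := h
  obtain ⟨β, hβ⟩ := exists_cp D ha
  refine ⟨(-m) • β, fun b => ?_⟩
  rw [D.act_rf ha, map_sub, map_zsmul, co_smul, ← hβ, hm, smul_eq_mul]
  ring

/-- **the affine Weyl group acts freely on the generic points** -/
theorem gen {l : (D.I → ℤ) →+ ℤ} {n : ℤ} (hn : 0 < n) (h : ∀ a, D.Rt a → ¬ n ∣ l a) {u : D.W} (hu : u ∈ Af D n l) :
    u = 1 := by
  obtain ⟨β, hu⟩ := hu
  let E : (D.I → ℤ) → ℤ := fun μ => ∑ c ∈ Phi D, (l c - n * co D μ c) ^ 2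
  have hE : ∀ μ, 0 ≤ E μ := fun μ => Finset.sum_nonneg fun _ _ => sq_nonneg _
  obtain ⟨μ, hμ⟩ : ∃ μ : D.I → ℤ, ∀ μ', E μ ≤ E μ' := by
    refine ⟨Function.argmin (fun μ : D.I → ℤ => (E μ).toNat), fun μ' => ?_⟩
    have h1 := Function.argmin_le (fun μ : D.I → ℤ => (E μ).toNat) μ'
    have h2 := hE μ'
    have h3 := hE (Function.argmin (fun μ : D.I → ℤ => (E μ).toNat))
    omega
  let l₁ : (D.I → ℤ) →+ ℤ := l - n • co D μ
  have hl : ∀ a, l₁ a = l a - n * co D μ a := fun a => rfl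
  have g1 : ∀ a, D.Rt a → ¬ n ∣ l₁ a := fun a ha hd => h a ha ((dvd_sub_left (Dvd.intro _ rfl)).1 (hl a ▸ hd))
  have g2 : ∀ a, D.Rt a → l₁ a < n := fun a ha => by
    obtain ⟨γ, hγ⟩ := exists_cp D ha
    have h1 := hμ (μ + γ)
    have h2 : E (μ + γ) = E μ - n * (2 * ∑ c ∈ Phi D, cp D c a * l₁ c) + n ^ 2 * ∑ c ∈ Phi D, cp D c a ^ 2 := by
      simp only [E, Finset.mul_sum, ← Finset.sum_sub_distrib, ← Finset.sum_add_distrib]
      refine Finset.sum_congr rfl fun c _ => ?_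
      rw [co_add, ← hγ, hl]
      ring
    rw [h2, two_sumZ D l₁ ha] at h1
    have h3 := sum_sq_pos D ha
    have h4 : l₁ a ≤ n := by
      by_contra h5
      have := mul_pos (mul_pos hn h3) (sub_pos.2 (not_le.1 h5))
      linarith only [h1, this]
    exact lt_of_le_of_ne h4 fun e => g1 a ha (e ▸ dvd_rfl)
  have g3 : ∀ a, D.Rt a → -n < l₁ a := fun a ha => by
    have := g2 _ ha.neg
    rw [map_neg] at this
    omega
  obtain ⟨δ, hδ⟩ := exists_co D (co D μ) u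
  have g4 : ∀ a, l₁ (D.act u a) = l₁ a + n * co D (β - δ) a := fun a => by
    rw [hl, hl, hu, hδ, co_sub]
    ring
  have g5 := co_eq_zero D (β - δ) fun a ha => by
    have h1 := g4 a
    have h2 := g2 _ ha
    have h3 := g3 _ ha
    have h4 := g2 _ (ha.act u)
    have h5 := g3 _ (ha.act u)
    rw [abs_le]
    constructor <;> by_contra h6 <;> push Not at h6 <;> nlinarith
  exact Subgroup.mem_bot.1 (CF.mem_of_fix D l₁ (fun a ha e => absurd (e ▸ dvd_zero _) (g1 a ha)) fun a => by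
    rw [g4, g5, mul_zero, add_zero])

theorem sum_inv (l : (D.I → ℤ) →+ ℤ) {u : D.W} {m : ℕ} (hm : u ^ m = 1) (a : D.I → ℤ) :
    ∑ i ∈ Finset.range m, l (D.act (u ^ i) (D.act u a)) = ∑ i ∈ Finset.range m, l (D.act (u ^ i) a) := by
  have h2 := Finset.sum_range_succ (fun i => l (D.act (u ^ i) a)) m
  have h3 := Finset.sum_range_succ' (fun i => l (D.act (u ^ i) a)) m
  simp only [hm, pow_zero] at h2 h3
  simp only [← CF.act_mul, ← pow_succ]
  omega

theorem ht_sign {a : D.I → ℤ} (ha : D.Rt a) : htHom a ≠ 0 := ht_ne_zero ha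

/-- **the stabiliser of a point is generated by reflections** -/
theorem stab {l : (D.I → ℤ) →+ ℤ} {n : ℤ} (hn : 0 < n) {H : Subgroup D.W}
    (hH : ∀ a, D.Rt a → n ∣ l a → D.rf a ∈ H) {u : D.W} (hu : u ∈ Af D n l) : u ∈ H := by
  obtain ⟨h, hh, h1⟩ := exists_align D (H ⊓ Af D n l)
    ((Int.castAddHom ℝ).comp (htHom.comp (rep D.cs D.h u).toAddMonoidHom)) ((Int.castAddHom ℝ).comp htHom)
  obtain ⟨β, hβ⟩ : u * h ∈ Af D n l := mul_mem hu hh.2
  suffices h0 : u * h = 1 by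
    rw [eq_inv_of_mul_eq_one_left h0]
    exact inv_mem hh.1
  have h2 : ∀ a, D.Rt a → n ∣ l a → 0 < htHom (D.act (u * h) a) * htHom a := fun a ha hd => by
    have h3 : (0 : ℝ) ≤ ((htHom (D.act u (D.act h a)) : ℤ) : ℝ) * ((htHom a : ℤ) : ℝ) :=
      h1 a ha ⟨hH a ha hd, rf_mem_Af D ha hd⟩
    rw [← CF.act_mul] at h3
    exact lt_of_le_of_ne (by exact_mod_cast h3) (mul_ne_zero (ht_sign D (ha.act _)) (ht_sign D ha)).symm
  generalize u * h = v at hβ h2
  have h3 : ∀ (i : ℕ) a, D.Rt a → n ∣ l a → n ∣ l (D.act (v ^ i) a) ∧ 0 < htHom (D.act (v ^ i) a) * htHom a := by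
    intro i a ha hd
    induction i with
    | zero =>
      rw [pow_zero, CF.act_one]
      exact ⟨hd, mul_self_pos.2 (ht_sign D ha)⟩
    | succ i ih =>
      rw [pow_succ', CF.act_mul]
      refine ⟨by rw [hβ]; exact dvd_add ih.1 (Dvd.intro _ rfl), ?_⟩
      have h4 := mul_pos (h2 _ (ha.act (v ^ i)) ih.1) ih.2
      have h5 := mul_self_pos.2 (ht_sign D (ha.act (v ^ i)))
      by_contra h6
      linarith only [h4, mul_nonneg (neg_nonneg.2 (not_lt.1 h6)) h5.le]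
  let lam : (D.I → ℤ) →+ ℤ := ∑ i ∈ Finset.range (orderOf v), htHom.comp (rep D.cs D.h (v ^ i)).toAddMonoidHom
  have hl : ∀ a, lam a = ∑ i ∈ Finset.range (orderOf v), htHom (D.act (v ^ i) a) := fun a =>
    AddMonoidHom.finsetSum_apply _ _ _
  have h4 : ∀ a, lam (D.act v a) = lam a := fun a => by rw [hl, hl, sum_inv D htHom (pow_orderOf_eq_one v)]
  have h5 : ∀ a, D.Rt a → n ∣ l a → lam a ≠ 0 := fun a ha hd e => by
    have h6 := Finset.sum_pos (s := Finset.range (orderOf v)) (fun i _ => (h3 i a ha hd).2)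
      ⟨0, Finset.mem_range.2 (orderOf_pos v)⟩
    rw [← Finset.sum_mul, ← hl, e, zero_mul] at h6
    exact lt_irrefl _ h6
  let K : ℤ := 1 + ∑ c ∈ Phi D, |lam c|
  have hK : ∀ a, D.Rt a → |lam a| < K := fun a ha => by
    have := Finset.single_le_sum (f := fun c => |lam c|) (fun _ _ => abs_nonneg _) ((mem_Phi D).2 ha)
    omega
  have hK0 : 0 < K := by
    have : 0 ≤ ∑ c ∈ Phi D, |lam c| := Finset.sum_nonneg fun _ _ => abs_nonneg _
    omega
  have hl' : ∀ a, (K • l + lam) a = K * l a + lam a := fun a => rfl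
  refine gen D (l := K • l + lam) (mul_pos hK0 hn) (fun a ha hd => ?_) ⟨β, fun a => ?_⟩
  · rw [hl'] at hd
    have h6 : K ∣ lam a := (dvd_add_right (Dvd.intro _ rfl)).1 ((Dvd.intro _ rfl).trans hd)
    have h7 : lam a = 0 := Int.eq_zero_of_abs_lt_dvd h6 (hK a ha)
    rw [h7, add_zero] at hd
    exact h5 a ha ((mul_dvd_mul_iff_left hK0.ne').1 hd) h7
  · rw [hl', hl', hβ, h4]
    ring

/-- `w` lies in the group generated by the reflections in the roots with `∑ wⁱ a = 0` -/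
theorem mem_of_sum {w : D.W} {n : ℕ} (hn : w ^ n = 1) {H : Subgroup D.W}
    (hH : ∀ a, D.Rt a → ∑ i ∈ Finset.range n, D.act (w ^ i) a = 0 → D.rf a ∈ H) : w ∈ H := by
  classical
  obtain ⟨g, hg⟩ := BpExc.Fix.exists_fun
    (((Phi D).image fun a => ∑ i ∈ Finset.range n, D.act (w ^ i) a).filter (· ≠ 0)) fun y hy =>
      (Finset.mem_filter.1 hy).2
  let lam : (D.I → ℤ) →+ ℤ := ∑ i ∈ Finset.range n, g.comp (rep D.cs D.h (w ^ i)).toAddMonoidHom
  have hl : ∀ a, lam a = ∑ i ∈ Finset.range n, g (D.act (w ^ i) a) := fun a => AddMonoidHom.finsetSum_apply _ _ _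
  refine CF.mem_of_fix D lam (fun a ha h0 => hH a ha (by_contra fun h1 => ?_)) fun a => by
    rw [hl, hl, sum_inv D g hn]
  rw [hl, ← map_sum] at h0
  exact hg _ (Finset.mem_filter.2 ⟨Finset.mem_image.2 ⟨a, (mem_Phi D).2 ha, rfl⟩, h1⟩) h0

end Cfsg.Agent.TO.X.Cn
end

-- part: TO/X/Conn
section
/-!
# S4817, exceptional groups: component groups of centralisers (helper39)

Any datum `D`; `Pi1 D f` : `f` annihilates the torsion of the fundamental group.

* `stab_vec`, `stab_cop`, `pow_mem` : the lattice stabiliser theorem;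
* `pow_mem_cen` (`y ^ f ∈ C°(t)`), `comm_mem_cen`, `mem_cen`, `conn` (the order of `t` prime to `f`);
* `ppr_W`, `ppr`, `ppr'` : `C(Z) / C°(Z)` is a `p`-group for a set `Z` of `p`-elements of `T`;
* `PM`, `pm_G2` .. `pm_E8`, `pi1`, `Pi1.conj` : the adjoint groups.
-/

set_option autoImplicit false
set_option linter.unusedSectionVars false

namespace Cfsg.Agent.TO.X.Cn

open CoxeterSystem Cfsg.Agent.ChevalleyStructure.CoxeterGeom Cfsg.Agent.Tits.Roots Cfsg.Agent.Nodes.Reps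
  Cfsg.Agent.Nodes.BNOf Matrix Cfsg.Agent.DL Cfsg.Agent.DL.PP Subgroup
open scoped commutatorElement

section general

variable {r : ℕ} [Fact r.Prime] {k : Type} [Field k] [CharP k r] {Y : Type} [Group Y] {N : Type} [Fintype N]
  [DecidableEq N] {ρ : Y →* GL N k} {F : MulAut Y} {G : Subgroup Y} (D : Datum r ρ F G)

/-- the element `∑ β i • αᵢ^∨` of the coroot lattice -/
def cl (β : D.I → ℤ) : D.R → ℤ := ∑ i, β i • D.cw i

theorem cl_zero : cl D 0 = 0 := by simp only [cl, _root_.Pi.zero_apply, _root_.zero_smul, _root_.Finset.sum_const_zero]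

theorem cl_add (β γ : D.I → ℤ) : cl D (β + γ) = cl D β + cl D γ := by
  simp only [cl, Pi.add_apply, add_smul, Finset.sum_add_distrib]

theorem cl_smul (m : ℤ) (β : D.I → ℤ) : cl D (m • β) = m • cl D β := by
  simp only [cl, Pi.smul_apply, smul_eq_mul, Finset.smul_sum, mul_smul]

theorem cl_sr (i : D.I) : cl D (sr i) = D.cw i := by
  rw [cl, Finset.sum_eq_single i (fun j _ hj => by rw [sr_ne hj, zero_smul]) fun h => absurd (Finset.mem_univ i) h,
    sr_self, one_smul]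

theorem wt_cl (a β : D.I → ℤ) : D.wt a ⬝ᵥ cl D β = co D β a := by
  rw [cl, dotProduct_sum, co_apply]
  exact Finset.sum_congr rfl fun i _ => by rw [dotProduct_smul, smul_eq_mul, ← D.pair]; rfl

/-- `f` annihilates the torsion of the fundamental group -/
def Pi1 (f : ℕ) : Prop :=
  ∀ (y : D.R → ℤ) (n : ℤ) (β : D.I → ℤ), n ≠ 0 → n • y = cl D β → ∃ β', (f : ℤ) • y = cl D β'

theorem pi1_of_mat {f : ℕ} (B : D.R → D.I → ℤ)
    (h : ∀ j m, ∑ i, B j i * D.cw i m = if j = m then (f : ℤ) else 0) : Pi1 D f := fun y _ _ _ _ => by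
  refine ⟨fun i => ∑ j, y j * B j i, funext fun m => ?_⟩
  simp only [cl, Finset.sum_apply, Pi.smul_apply, smul_eq_mul, Finset.sum_mul, mul_assoc]
  rw [Finset.sum_comm]
  simp only [← Finset.mul_sum, h, mul_ite, mul_zero, Finset.sum_ite_eq', Finset.mem_univ, if_true, mul_comm]

/-- the elements of `W` with a representative in the connected centraliser -/
def WZ (Z : Set Y) : Subgroup D.W where
  carrier := {w | ∃ x ∈ D.cen Z, D.Rp w x}
  one_mem' := ⟨1, one_mem _, rp_one⟩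
  mul_mem' := fun ⟨x, hx, h⟩ ⟨y, hy, h'⟩ => ⟨x * y, mul_mem hx hy, h.mul h'⟩
  inv_mem' := fun ⟨x, hx, h⟩ => ⟨x⁻¹, inv_mem hx, h.inv⟩

theorem mem_WZ {Z : Set Y} {w : D.W} {m : Y} (hm : D.Rp w m) : w ∈ WZ D Z ↔ m ∈ D.cen Z := by
  refine ⟨fun ⟨x, hx, h⟩ => ?_, fun h => ⟨m, h, hm⟩⟩
  have h1 := h.inv.mul hm
  rw [inv_mul_cancel] at h1
  exact (Subgroup.mul_mem_cancel_left _ (inv_mem hx)).1 (D.T_le_cen Z h1.mem_of_one)

theorem rp_pow {w : D.W} {m : Y} (hm : D.Rp w m) (i : ℕ) : D.Rp (w ^ i) (m ^ i) := by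
  induction i with
  | zero => rw [pow_zero, pow_zero]; exact rp_one
  | succ i ih => rw [pow_succ, pow_succ]; exact ih.mul hm

/-- the connected centraliser is normal in the centraliser -/
theorem normal_cen {Z : Set Y} (hZ : Z ⊆ D.T) : ((D.cen Z).subgroupOf (G ⊓ centralizer Z)).Normal :=
  ⟨fun _ hc y => D.conj_mem_cen hZ y.2.1 y.2.2 hc⟩

/-- a representative in `N` -/
theorem exists_rep {Z : Set Y} (hZ : Z ⊆ D.T) (y : ↥(G ⊓ centralizer Z)) : ∃ (w : D.W) (m : ↥(G ⊓ centralizer Z)),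
    D.Rp w m ∧ (y : ↥(G ⊓ centralizer Z) ⧸ (D.cen Z).subgroupOf (G ⊓ centralizer Z)) = m := by
  obtain ⟨c, hc, m, ⟨w, hm⟩, h1, e⟩ := D.exists_cen_form hZ y.2.1 y.2.2
  have := normal_cen D hZ
  refine ⟨w, ⟨m, Datum.Rp.mem_G hm, h1⟩, hm, QuotientGroup.eq_iff_div_mem.2 ?_⟩
  rw [div_eq_mul_inv]
  show (y : Y) * m⁻¹ ∈ D.cen Z
  rw [e, mul_inv_cancel_right]
  exact D.S_le_cen Z hc

theorem exists_rep_pow {Z : Set Y} (hZ : Z ⊆ D.T) {y : Y} (hy : y ∈ G) (hc : y ∈ centralizer Z) :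
    ∃ w m, D.Rp w m ∧ m ∈ centralizer Z ∧ ∀ j : ℕ, y ^ j ∈ D.cen Z ↔ w ^ j ∈ WZ D Z := by
  obtain ⟨w, m, hm, e⟩ := exists_rep D hZ ⟨y, hy, hc⟩
  have := normal_cen D hZ
  refine ⟨w, m, hm, m.2.2, fun j => ?_⟩
  have h1 := QuotientGroup.eq_one_iff (N := (D.cen Z).subgroupOf (G ⊓ centralizer Z)) (⟨y, hy, hc⟩ ^ j)
  have h2 := QuotientGroup.eq_one_iff (N := (D.cen Z).subgroupOf (G ⊓ centralizer Z)) (m ^ j)
  rw [QuotientGroup.mk_pow] at h1 h2
  rw [mem_WZ D (rp_pow D hm j)]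
  exact h1.symm.trans (e ▸ h2)

theorem χ_pow (a : D.I → ℤ) {t : Y} (ht : t ∈ D.T) (n : ℕ) : D.χ a (t ^ n) = D.χ a t ^ n := by
  induction n with
  | zero => rw [pow_zero, pow_zero, D.χ_one]
  | succ n ih => rw [pow_succ, pow_succ, D.χ_mul a (pow_mem ht n) ht, ih]

/-- **an element of order prime to the orders in `Z` is a product of reflections** -/
theorem ppr_W {Z : Set Y} (hZ : Z ⊆ D.T) {w : D.W} (hw : ∀ a, ∀ z ∈ Z, D.χ (D.act w a) z = D.χ a z) {n : ℕ}
    (hn : w ^ n = 1) (hc : ∀ z ∈ Z, (orderOf z).Coprime n) {H : Subgroup D.W} (hH : ∀ a ∈ D.Sz Z, D.rf a ∈ H) :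
    w ∈ H := by
  refine mem_of_sum D hn fun a ha h0 => hH a ⟨ha, fun z hz => ?_⟩
  have h1 : ∀ i a, D.χ (D.act (w ^ i) a) z = D.χ a z := by
    intro i
    induction i with
    | zero => intro a; rw [pow_zero, CF.act_one]
    | succ i ih => intro a; rw [pow_succ, CF.act_mul, ih, hw a z hz]
  have h2 : ∀ m : ℕ, D.χ (∑ i ∈ Finset.range m, D.act (w ^ i) a) z = D.χ a z ^ m := by
    intro m
    induction m with
    | zero => rw [Finset.sum_range_zero, D.χ_zero, pow_zero]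
    | succ m ih => rw [Finset.sum_range_succ, D.χ_add, ih, h1, pow_succ]
  have h3 : D.χ a z ^ n = 1 := by rw [← h2, h0, D.χ_zero]
  have h4 : D.χ a z ^ orderOf z = 1 := by rw [← χ_pow D a (hZ hz), pow_orderOf_eq_one, D.χ_one]
  rw [← pow_one (D.χ a z), ← (hc z hz).gcd_eq_one]
  exact pow_gcd_eq_one.2 ⟨h4, h3⟩

/-- exponential coordinates -/
theorem exists_exp {t : Y} (ht : t ∈ D.T) :
    ∃ (ζ : kˣ) (v : D.R → ℤ), 0 < orderOf ζ ∧ orderOf ζ ∣ orderOf t ∧ t = D.τ (coch v ζ) := by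
  obtain ⟨c, rfl⟩ := (D.mem_T t).1 ht
  have h0 := (D.amb.isOfFinOrder (D.τ c)).orderOf_pos
  have : NeZero (orderOf (D.τ c)) := ⟨h0.ne'⟩
  have hc : c ^ orderOf (D.τ c) = 1 := D.τ_inj (by rw [map_pow, pow_orderOf_eq_one, map_one])
  obtain ⟨ζ, hζ⟩ := IsCyclic.exists_generator (α := rootsOfUnity (orderOf (D.τ c)) k)
  have h1 : ∀ j, ∃ n : ℤ, (ζ : kˣ) ^ n = c j := fun j => by
    obtain ⟨n, hn⟩ := hζ ⟨c j, (mem_rootsOfUnity _ _).2 (congrFun hc j)⟩
    exact ⟨n, congrArg Subtype.val hn⟩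
  choose v hv using h1
  have h2 := orderOf_dvd_of_pow_eq_one ((mem_rootsOfUnity _ _).1 ζ.2)
  exact ⟨ζ, v, Nat.pos_of_dvd_of_pos h2 h0, h2, congrArg D.τ (funext fun j => (hv j).symm)⟩

theorem χ_exp (a : D.I → ℤ) (v : D.R → ℤ) (ζ : kˣ) :
    D.χ a (D.τ (coch v ζ)) = 1 ↔ (orderOf ζ : ℤ) ∣ D.wt a ⬝ᵥ v := by
  rw [D.χ_τ, chr_coch, Units.val_eq_one, orderOf_dvd_iff_zpow_eq_one]
  rfl

theorem comm_exp {w : D.W} {m : Y} (hm : D.Rp w m) {v : D.R → ℤ} {ζ : kˣ}
    (hc : m ∈ centralizer ({D.τ (coch v ζ)} : Set Y)) (j : D.R) : (orderOf ζ : ℤ) ∣ (D.Wm w *ᵥ v) j - v j := by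
  have h1 := D.conj_τ hm (coch v ζ)
  rw [mem_centralizer_singleton_iff.1 hc, mul_inv_cancel_right, mon_coch] at h1
  have h2 : ζ ^ v j = ζ ^ (D.Wm w *ᵥ v) j := congrFun (D.τ_inj h1) j
  rw [orderOf_dvd_iff_zpow_eq_one, _root_.zpow_sub, ← h2, mul_inv_cancel]

variable [IsAlgClosed k]

theorem rf_mem_WZ {Z : Set Y} (a : D.I → ℤ) (ha : a ∈ D.Sz Z) : D.rf a ∈ WZ D Z := by
  obtain ⟨x, hx, h⟩ := D.exists_rp_rf ha.1
  exact ⟨x, (sup_le_sup_left (sup_le (Nodes.BNOf.RGD.le_Sup (S := D.Sz Z) ha)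
    (Nodes.BNOf.RGD.le_Sup (S := D.Sz Z) (D.Sz_neg ha))) _ : _ ≤ D.cen Z) hx, h⟩

theorem exists_cl (v : D.R → ℤ) (u : D.W) : ∃ β, D.Wm u *ᵥ v = v + cl D β := by
  induction u using D.cs.simple_induction_left with
  | one => exact ⟨0, by rw [D.Wm_one, one_mulVec, cl_zero, add_zero]⟩
  | mul_simple_left w i ih =>
    obtain ⟨β, hβ⟩ := ih
    refine ⟨β + (-(D.wt (sr i) ⬝ᵥ (v + cl D β))) • sr i, ?_⟩
    rw [D.Wm_mul, ← mulVec_mulVec, hβ, D.Wm_simple, sub_mulVec, one_mulVec, vecMulVec_mulVec, cl_add, cl_smul, cl_sr,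
      neg_smul, ← add_assoc, sub_eq_add_neg, op_smul_eq_smul]

/-- `u` moves `v` by `n` times an element of the class of `μ` modulo the coroot lattice -/
def Tr (n : ℤ) (v : D.R → ℤ) (u : D.W) (μ : D.R → ℤ) : Prop := ∃ β, D.Wm u *ᵥ v = v + n • (μ + cl D β)

variable {D}

theorem Tr.mul {n : ℤ} {v μ ν : D.R → ℤ} {u w : D.W} (h : Tr D n v u μ) (h' : Tr D n v w ν) :
    Tr D n v (u * w) (μ + ν) := by
  obtain ⟨β, hβ⟩ := h
  obtain ⟨γ, hγ⟩ := h'
  obtain ⟨δ, hδ⟩ := exists_cl D (ν + cl D γ) u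
  refine ⟨β + γ + δ, ?_⟩
  rw [D.Wm_mul, ← mulVec_mulVec, hγ, mulVec_add, mulVec_smul, hβ, hδ, cl_add, cl_add]
  module

theorem Tr.inv {n : ℤ} {v μ : D.R → ℤ} {u : D.W} (h : Tr D n v u μ) : Tr D n v u⁻¹ (-μ) := by
  obtain ⟨β, hβ⟩ := h
  obtain ⟨δ, hδ⟩ := exists_cl D (μ + cl D β) u⁻¹
  have h1 := congrArg (D.Wm u⁻¹ *ᵥ ·) hβ
  simp only [mulVec_mulVec, ← D.Wm_mul, inv_mul_cancel, D.Wm_one, one_mulVec] at h1
  rw [mulVec_add, mulVec_smul, hδ] at h1
  refine ⟨(-1 : ℤ) • (β + δ), ?_⟩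
  rw [← sub_eq_iff_eq_add.2 h1, cl_smul, cl_add]
  module

theorem Tr.pow {n : ℤ} {v μ : D.R → ℤ} {u : D.W} (h : Tr D n v u μ) (j : ℕ) : Tr D n v (u ^ j) ((j : ℤ) • μ) := by
  induction j with
  | zero => exact ⟨0, by rw [pow_zero, D.Wm_one, one_mulVec, cl_zero]; simp⟩
  | succ j ih =>
    rw [pow_succ, Nat.cast_succ, add_smul, one_smul]
    exact ih.mul h

theorem tr_of_dvd {n : ℤ} {v : D.R → ℤ} {u : D.W} (hu : ∀ j, n ∣ (D.Wm u *ᵥ v) j - v j) :
    ∃ μ β, Tr D n v u μ ∧ n • μ = cl D β := by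
  choose μ hμ using hu
  obtain ⟨β, hβ⟩ := exists_cl D v u
  have h1 : D.Wm u *ᵥ v = v + n • μ := funext fun j => by
    rw [Pi.add_apply, Pi.smul_apply, smul_eq_mul, ← hμ, add_sub_cancel]
  exact ⟨μ, β, ⟨0, by rw [cl_zero, add_zero, h1]⟩, add_left_cancel (h1.symm.trans hβ)⟩

variable (D)

/-- **the lattice stabiliser theorem** -/
theorem stab_vec {n : ℤ} (hn : 0 < n) {v : D.R → ℤ} {u : D.W} {β : D.I → ℤ} (hu : D.Wm u *ᵥ v = v + n • cl D β)
    {H : Subgroup D.W} (hH : ∀ a, D.Rt a → n ∣ D.wt a ⬝ᵥ v → D.rf a ∈ H) : u ∈ H := by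
  let l : (D.I → ℤ) →+ ℤ := AddMonoidHom.mk' (fun a => D.wt a ⬝ᵥ v) fun a b => by rw [map_add, add_dotProduct]
  refine inv_mem_iff.1 (stab D (l := l) hn hH ⟨β, fun a => ?_⟩)
  show D.wt (D.act u⁻¹ a) ⬝ᵥ v = D.wt a ⬝ᵥ v + _
  rw [D.wt_act', ← dotProduct_mulVec, hu, dotProduct_add, dotProduct_smul, wt_cl, smul_eq_mul]

variable {D} in
theorem Tr.mem {n : ℤ} (hn : 0 < n) {v : D.R → ℤ} {u : D.W} {γ : D.I → ℤ} (h : Tr D n v u (cl D γ))
    {H : Subgroup D.W} (hH : ∀ a, D.Rt a → n ∣ D.wt a ⬝ᵥ v → D.rf a ∈ H) : u ∈ H :=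
  let ⟨β, hβ⟩ := h
  stab_vec D hn (β := γ + β) (by rw [hβ, cl_add]) hH

variable {D} {f : ℕ} (h : Pi1 D f)
include h

theorem pow_mem {n : ℤ} (hn : 0 < n) {v : D.R → ℤ} {u : D.W} (hu : ∀ j, n ∣ (D.Wm u *ᵥ v) j - v j)
    {H : Subgroup D.W} (hH : ∀ a, D.Rt a → n ∣ D.wt a ⬝ᵥ v → D.rf a ∈ H) : u ^ f ∈ H := by
  obtain ⟨μ, β, h1, h2⟩ := tr_of_dvd hu
  obtain ⟨γ, hγ⟩ := h μ n β hn.ne' h2
  exact Tr.mem hn (hγ ▸ h1.pow f) hH

/-- the lattice stabiliser theorem for `n` prime to `f` -/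
theorem stab_cop {n : ℤ} (hn : 0 < n) (hc : IsCoprime n f) {v : D.R → ℤ} {u : D.W}
    (hu : ∀ j, n ∣ (D.Wm u *ᵥ v) j - v j) {H : Subgroup D.W} (hH : ∀ a, D.Rt a → n ∣ D.wt a ⬝ᵥ v → D.rf a ∈ H) :
    u ∈ H := by
  obtain ⟨μ, β, h1, h2⟩ := tr_of_dvd hu
  obtain ⟨γ, hγ⟩ := h μ n β hn.ne' h2
  obtain ⟨a, b, hab⟩ := hc
  have h3 : μ = cl D (a • β + b • γ) := by
    rw [cl_add, cl_smul, cl_smul, ← h2, ← hγ, smul_smul, smul_smul, ← add_smul, hab, one_smul]
  exact Tr.mem hn (h3 ▸ h1) hH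

omit h in
theorem rf_exp {v : D.R → ℤ} {ζ : kˣ} (a : D.I → ℤ) (ha : D.Rt a) (hd : (orderOf ζ : ℤ) ∣ D.wt a ⬝ᵥ v) :
    D.rf a ∈ WZ D {D.τ (coch v ζ)} :=
  rf_mem_WZ D a ⟨ha, fun _ hz => hz ▸ (χ_exp D a v ζ).2 hd⟩

/-- **the component group of the centraliser of `t` has exponent dividing `f`** -/
theorem pow_mem_cen {t y : Y} (ht : t ∈ D.T) (hy : y ∈ G) (hc : y * t = t * y) : y ^ f ∈ D.cen {t} := by
  obtain ⟨w, m, hm, h1, h2⟩ :=
    exists_rep_pow D (Set.singleton_subset_iff.2 ht) hy (mem_centralizer_singleton_iff.2 hc)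
  obtain ⟨ζ, v, h0, -, rfl⟩ := exists_exp D ht
  exact (h2 f).2 (pow_mem h (Int.natCast_pos.2 h0) (comm_exp D hm h1) rf_exp)

/-- **connected centralisers** -/
theorem mem_cen {t y : Y} (ht : t ∈ D.T) {n : ℕ} (hn : t ^ n = 1) (hf : n.Coprime f) (hy : y ∈ G)
    (hc : y * t = t * y) : y ∈ D.cen {t} := by
  obtain ⟨w, m, hm, h1, h2⟩ :=
    exists_rep_pow D (Set.singleton_subset_iff.2 ht) hy (mem_centralizer_singleton_iff.2 hc)
  obtain ⟨ζ, v, h0, h3, rfl⟩ := exists_exp D ht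
  rw [← pow_one y, h2, pow_one]
  exact stab_cop h (Int.natCast_pos.2 h0) (Nat.isCoprime_iff_coprime.2
    (hf.coprime_dvd_left (h3.trans (orderOf_dvd_of_pow_eq_one hn)))) (comm_exp D hm h1) rf_exp

omit h

variable (D)

variable {p : ℕ} (hp : p.Prime) {Z : Set Y} (hZ : Z ⊆ D.T) (hz : ∀ z ∈ Z, ∃ j, z ^ p ^ j = 1)
include hp hZ hz

/-- **the component group of the centraliser of a set of `p`-elements of `T` is a `p`-group** -/
theorem ppr {y : Y} (hy : y ∈ G) (hc : y ∈ centralizer Z) : ∃ j, y ^ p ^ j ∈ D.cen Z := by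
  obtain ⟨w, m, hm, h1, h2⟩ := exists_rep_pow D hZ hy hc
  obtain ⟨j, n, hn, e⟩ := Nat.exists_eq_pow_mul_and_not_dvd (orderOf_pos w).ne' p hp.ne_one
  refine ⟨j, (h2 _).2 (ppr_W D hZ (n := n) (fun a z h => ?_) (by rw [← pow_mul, ← e, pow_orderOf_eq_one])
    (fun z h => ?_) (rf_mem_WZ D))⟩
  · exact D.χ_act_of_comm hZ (rp_pow D hm _) (Subgroup.pow_mem _ h1 _) a h
  · obtain ⟨i, hi⟩ := hz z h
    exact ((hp.coprime_iff_not_dvd.2 hn).pow_left i).coprime_dvd_left (orderOf_dvd_of_pow_eq_one hi)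

/-- elements of order prime to `p` modulo the connected centraliser lie in it -/
theorem ppr' {y : Y} (hy : y ∈ G) (hc : y ∈ centralizer Z) {n : ℕ} (hn : ¬ p ∣ n) (h : y ^ n ∈ D.cen Z) :
    y ∈ D.cen Z := by
  obtain ⟨j, hj⟩ := ppr D hp hZ hz hy hc
  have h1 : y = (y ^ p ^ j) ^ Nat.gcdA (p ^ j) n * (y ^ n) ^ Nat.gcdB (p ^ j) n := by
    rw [← _root_.zpow_natCast, ← _root_.zpow_natCast y n, ← _root_.zpow_mul, ← _root_.zpow_mul, ← _root_.zpow_add, ← Nat.gcd_eq_gcd_ab,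
      ((hp.coprime_iff_not_dvd.2 hn).pow_left j).gcd_eq_one, Nat.cast_one, _root_.zpow_one]
  rw [h1]
  exact mul_mem (zpow_mem hj _) (zpow_mem h _)

/-- `p'`-elements of the centraliser lie in the connected centraliser -/
theorem ppr_ord {y : Y} (hy : y ∈ G) (hc : y ∈ centralizer Z) (hn : ¬ p ∣ orderOf y) : y ∈ D.cen Z :=
  ppr' D hp hZ hz hy hc hn (by rw [pow_orderOf_eq_one]; exact one_mem _)

omit hp hZ hz

variable {D} in
theorem Pi1.conj (h : Pi1 D f) {y : Y} (hy : y ∈ G) (hF : y⁻¹ * F y ∈ D.NN) : Pi1 (D.conj hy hF) f := h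

end general

/-! ### the adjoint groups -/

section adjoint

open Cfsg Cfsg.Lie Cfsg.Agent.KZ.DatX Cfsg.Agent.ChevalleyStructure.CoxeterGeomTypes Cfsg.Agent.Nodes.RGDChev

/-- `f` times the inverse of the Cartan matrix is integral -/
def PM (C : ChevalleyDatum) (l f : ℕ) : Prop :=
  ∃ B : Fin l → Fin l → ℤ, ∀ j m, ∑ i, B j i * cartanOf C l i m = if j = m then (f : ℤ) else 0

theorem pm_G2 : PM chevG2 2 1 := ⟨![![2, 3], ![1, 2]], by decide +kernel⟩

theorem pm_B2 : PM chevB2 2 2 := ⟨![![2, 2], ![1, 2]], by decide +kernel⟩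

theorem pm_D4 : PM chevD4 4 2 := ⟨![![2, 2, 1, 1], ![2, 4, 2, 2], ![1, 2, 2, 1], ![1, 2, 1, 2]], by decide +kernel⟩

theorem pm_F4 : PM chevF4 4 1 := ⟨![![2, 3, 4, 2], ![3, 6, 8, 4], ![2, 4, 6, 3], ![1, 2, 3, 2]], by decide +kernel⟩

theorem pm_E6 : PM chevE6 6 3 :=
  ⟨![![4, 3, 5, 6, 4, 2], ![3, 6, 6, 9, 6, 3], ![5, 6, 10, 12, 8, 4], ![6, 9, 12, 18, 12, 6], ![4, 6, 8, 12, 10, 5],
    ![2, 3, 4, 6, 5, 4]], by decide +kernel⟩

theorem pm_E7 : PM chevE7 7 2 :=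
  ⟨![![4, 4, 6, 8, 6, 4, 2], ![4, 7, 8, 12, 9, 6, 3], ![6, 8, 12, 16, 12, 8, 4], ![8, 12, 16, 24, 18, 12, 6],
    ![6, 9, 12, 18, 15, 10, 5], ![4, 6, 8, 12, 10, 8, 4], ![2, 3, 4, 6, 5, 4, 3]], by decide +kernel⟩

theorem pm_E8 : PM chevE8 8 1 :=
  ⟨![![4, 5, 7, 10, 8, 6, 4, 2], ![5, 8, 10, 15, 12, 9, 6, 3], ![7, 10, 14, 20, 16, 12, 8, 4],
    ![10, 15, 20, 30, 24, 18, 12, 6], ![8, 12, 16, 24, 20, 15, 10, 5], ![6, 9, 12, 18, 15, 12, 8, 4],
    ![4, 6, 8, 12, 10, 8, 6, 3], ![2, 3, 4, 6, 5, 4, 3, 2]], by decide +kernel⟩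

variable {C : ChevalleyDatum} {l : ℕ} {M : CoxeterMatrix (Fin l)} {hp : IsType C l M} {r : ℕ} [Fact r.Prime] {k : Type}
  [Field k] [CharP k r] [IsAlgClosed k] {Mx : Matrix (Fin l) (Fin l) ℤ} (X : XF hp r k Mx) {f : ℕ}

theorem pi1 (h : PM C l f) : Pi1 X.D f :=
  let ⟨B, hB⟩ := h
  pi1_of_mat X.D B hB

end adjoint

end Cfsg.Agent.TO.X.Cn
end

private theorem dce_2d21841cfde1 : _root_.True := by
  try have : _root_.True := by simp only [_root_.Cfsg.Agent.TO.X.Cn.cl.eq_1]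
  exact _root_.True.intro
end
end
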