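import Cfsg.Agent.KZ.DatX.Gd_m3
import Cfsg.Agent.DL.Tw.Gr
import Cfsg.Agent.DL.Tw.Suz
import Cfsg.Agent.H79.DiagSymm
import Cfsg.Agent.H79.GraphD4
import Cfsg.Agent.H69.OutGF
import Cfsg.Agent.KZ.Tool.Crit
import Cfsg.Agent.BpExc.FamTwSix
import Cfsg.Agent.H135.TD.AutOne
import Cfsg.Agent.H71.FldAut
import Cfsg.Agent.S1082
import Cfsg.Agent.ChevalleyStructure.WeylData
import Cfsg.Agent.ChevFast.E6
import Cfsg.Agent.ChevFast.E7
import Cfsg.Agent.ChevFast.E8
import Cfsg.Agent.Prune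
set_option linter.all false

section
prune_inst 0x7f00000000000000000000000000000000000000000000000000000000000000000000000000000000000000000000000000000000000000000000000000000000000000000000000000000000000000003fffffffffffffffffffffffffffbeffbdffffffff

-- part: KZ/DatX/Gr
section
set_option linter.all false
open scoped Cfsg.Agent.FastGrp

/-!
# KZ, the exceptional groups: graph automorphisms (helper84)

The matrices `P6`, `P4`, `L4`, `GamF`, `GamB`; the automorphisms `gd6`, `gd4a`, `gd4c`, `gdF`, `gdB`; `grL_*` : every graph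
automorphism of the finite group is lifted.
-/

set_option autoImplicit false
set_option linter.unusedSectionVars false

namespace Cfsg.Agent.KZ.DatX

open CoxeterSystem Cfsg Cfsg.Lie Cfsg.Lie.ChevalleyDatum Matrix
open Cfsg.Agent.ChevalleyStructure Cfsg.Agent.ChevalleyStructure.Elts Cfsg.Agent.ChevalleyStructure.CoxeterGeom
  Cfsg.Agent.ChevalleyStructure.CoxeterGeomTypes Cfsg.Agent.ChevalleyStructure.NPerm
open Cfsg.Agent.Tits.Roots Cfsg.Agent.Nodes Cfsg.Agent.Nodes.RGDChev Cfsg.Agent.Nodes.BNOf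
open Cfsg.Agent.KFacts.RgdChevCoord Cfsg.Agent.BpExc.TowChev Cfsg.Agent.GpExc.Field Cfsg.Agent.BpExc
  Cfsg.Agent.BpExc.TorChev
open Cfsg.Agent.DL Cfsg.Agent.DL.Ex Cfsg.Agent.DL.PP Cfsg.Agent.DL.Uni Cfsg.Agent.KZ.Lie
open Cfsg.Agent.ChevalleyStructure.SignedSymm Cfsg.Agent.ChevalleyStructure.GraphSymm
open Cfsg.Agent.H79.DiagSymm Cfsg.Agent.H79.GraphD4

/-! ### the types -/

theorem hpG2 : IsType chevG2 2 CoxeterMatrix.G₂ := by simp [IsType, typeList]

theorem hpB2 : IsType chevB2 2 (CoxeterMatrix.B 2) := Tw.tyB2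

theorem hpD4 : IsType chevD4 4 coxeterD4 := hp4

theorem hpF4 : IsType chevF4 4 CoxeterMatrix.F₄ := H493.F4Tor.hp

theorem hpE6 : IsType chevE6 6 CoxeterMatrix.E₆ := hp6

theorem hpE7 : IsType chevE7 7 CoxeterMatrix.E₇ := by simp [IsType, typeList]

theorem hpE8 : IsType chevE8 8 CoxeterMatrix.E₈ := by simp [IsType, typeList]

/-! ### the matrices -/

/-- the permutation matrix with the entries `1` at the positions `(π j, j)` -/
def pmat {l : ℕ} (π : Equiv.Perm (Fin l)) : Matrix (Fin l) (Fin l) ℤ := Matrix.of fun i j => if i = π j then 1 else 0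

theorem pm_zero {l : ℕ} (p : ℕ) (π : Equiv.Perm (Fin l)) : pm p π (fun _ => 0) = pmat π := by
  ext a b
  simp only [pm, pmat, Matrix.of_apply, pow_zero]

/-- the symmetry of the diagram `E₆` -/
def P6 : Matrix (Fin 6) (Fin 6) ℤ := pmat pi6

/-- triality -/
def P4 : Matrix (Fin 4) (Fin 4) ℤ := pmat pi4

/-- an involution of the diagram `D₄` -/
def pi4c : Equiv.Perm (Fin 4) := Equiv.swap 0 2

/-- the symmetries of the diagram `D₄` -/
def L4 : List (Matrix (Fin 4) (Fin 4) ℤ) := [1, pmat pi4, pmat (pi4 * pi4), pmat pi4c, pmat (pi4 * pi4c), pmat (pi4c * pi4)]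

/-- the flip of the diagram `F₄` -/
def piF : Equiv.Perm (Fin 4) := ⟨![3, 2, 1, 0], ![3, 2, 1, 0], by decide, by decide⟩

/-- the special isogeny of `F₄` -/
def GamF : Matrix (Fin 4) (Fin 4) ℤ := pm 2 piF ![1, 1, 0, 0]

/-- the special isogeny of `B₂` -/
def GamB : Matrix (Fin 2) (Fin 2) ℤ := pm 2 (Equiv.swap 0 1) ![1, 0]

theorem GamF_eq : GamF = !![0, 0, 0, 1; 0, 0, 1, 0; 0, 2, 0, 0; 2, 0, 0, 0] := by decide +kernel

theorem GamB_eq : GamB = !![0, 1; 2, 0] := by decide +kernel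

theorem P6_eq : P6 = !![0, 0, 0, 0, 0, 1; 0, 1, 0, 0, 0, 0; 0, 0, 0, 0, 1, 0; 0, 0, 0, 1, 0, 0; 0, 0, 1, 0, 0, 0;
    1, 0, 0, 0, 0, 0] := by decide +kernel

theorem P4_eq : P4 = !![0, 0, 0, 1; 0, 1, 0, 0; 1, 0, 0, 0; 0, 0, 1, 0] := by decide +kernel

/-! ### the automorphisms -/

section Gen

variable {C : ChevalleyDatum} {l : ℕ} {M : CoxeterMatrix (Fin l)} {hp : IsType C l M} {p : ℕ} [Fact p.Prime] {k : Type}
  [Field k] [CharP k p] [IsAlgClosed k]

variable (hp p k) in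
/-- a signed symmetry -/
def gdS (S : Symm C) {π : Equiv.Perm (Fin l)} (T : Tab C l (bS S) (fun _ => 0) (eS S) π) (O : Onto C l (bS S)) :
    Gd hp p (S.aut k) π fun _ => 0 :=
  ⟨bS S, fun _ => 0, eS S, acts_aut p _ S, T, O, fun _ => rfl⟩

/-- a special isogeny -/
def gdC {α : MulAut ↥(C.group k)} {σ ex : ℕ → ℕ} {π : Equiv.Perm (Fin l)} {e : ℕ} {x : Fin l → ℕ}
    (h : Tw.Spc hp p α σ ex) (D : Tw.SpcD C l σ ex π e)
    (pos : ∀ r < C.nroots, (∀ i, 0 ≤ RGDChev.vec C l r i) → ∀ i, 0 ≤ RGDChev.vec C l (σ r) i)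
    (hx : ∀ i : Fin l, ex (C.simple i) = x i) : Gd hp p α π x where
  b := σ
  e := ex
  ε _ := 1
  acts r hr t := by rw [← xc_vec hp hr, h.act r hr, xc_vec hp (D.lt r hr), Int.cast_one, one_mul, zero_add]
  tab := ⟨fun r hr => ⟨D.lt r hr, one_mul _, pos r hr⟩, fun i =>
    have hi := simple_lt hp.inList (lt_rank hp i)
    ⟨D.simple i, by rw [D.neg _ hi, D.simple], rfl, rfl, D.exneg _ hi⟩⟩
  onto s hs h0 := ⟨σ s, D.lt s hs, pos s hs h0, D.inv s hs⟩
  ex := hx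

variable {F : Type} [Field F]

theorem graphExp_self (c i : ℕ) : C.graphExp c i i = 1 := by
  unfold ChevalleyDatum.graphExp
  cases C.isLong (C.simple i) <;> rfl

theorem val_of_imgs {ρ : Equiv.Perm (Fin C.rank)} {π : Equiv.Perm (Fin l)} {L : List ℕ} (h : imgs ρ = L)
    (h' : ∀ i : Fin l, L.getD i 0 = π i) (i : Fin l) : (ρ ⟨i, lt_rank hp i⟩ : ℕ) = π i := by
  rw [← h', ← h]
  exact (imgs_getD ρ ⟨i, lt_rank hp i⟩).symm

/-- the trivial symmetry -/
theorem gr_one {ρ : Equiv.Perm (Fin C.rank)} (h : ρ = 1) {L : List (Matrix (Fin l) (Fin l) ℤ)} (h1 : 1 ∈ L) (c : ℕ) :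
    ∃ (α : MulAut ↥(C.group k)) (π : Equiv.Perm (Fin l)) (x : Fin l → ℕ), Nonempty (Gd hp p α π x) ∧ pm p π x ∈ L ∧
      ∀ i : Fin l, (ρ ⟨i, lt_rank hp i⟩ : ℕ) = π i ∧ C.graphExp c i (π i) = p ^ x i := by
  subst h
  exact ⟨_, 1, _, ⟨Gd.frob hp p k 0⟩, by rwa [pm_one], fun i => ⟨rfl, graphExp_self c i⟩⟩

theorem eq_one_of_imgs {ρ : Equiv.Perm (Fin C.rank)} (h : imgs ρ = List.range C.rank) : ρ = 1 :=
  eq_of_imgs (h.trans imgs_one.symm)

theorem realised_of [Finite F] [CharP F p] {g : MulAut ↥(C.group F)} {ρ : Equiv.Perm (Fin C.rank)}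
    (h : H79.OutChev.IsGr hp.inList ρ (fun i => C.graphExp (ringChar F) i (ρ i)) g) :
    ρ ∈ H70.OutCount.realised hp.inList F := by
  have hs : ∀ i : Fin C.rank, Function.Surjective fun t : F => t ^ C.graphExp (ringChar F) i (ρ i) := by
    intro i
    unfold ChevalleyDatum.graphExp
    split_ifs
    · rw [ringChar.eq F p]
      exact H69.OutGF.hperf p
    · intro t
      exact ⟨t, pow_one t⟩
  exact ⟨g, ⟨fun i => H69.OutGF.smul_XX hp.inList (φ := g) (hs i) fun t => (h i t).1,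
    fun i => H69.OutGF.smul_XX hp.inList (φ := g) (hs i) fun t => (h i t).2⟩⟩

end Gen

theorem onto6 : Onto chevE6 6 (bS symmE6) := by decide +kernel

theorem onto4 : Onto chevD4 4 (bS symmD4a) := by decide +kernel

theorem tab4c : Tab chevD4 4 (bS symmD4c) (fun _ => 0) (eS symmD4c) pi4c := by decide +kernel

theorem onto4c : Onto chevD4 4 (bS symmD4c) := by decide +kernel

theorem posF : ∀ r < chevF4.nroots, (∀ i, 0 ≤ RGDChev.vec chevF4 4 r i) →
    ∀ i, 0 ≤ RGDChev.vec chevF4 4 (TwF4.Rel.bar r) i := by decide +kernel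

theorem posB : ∀ r < chevB2.nroots, (∀ i, 0 ≤ RGDChev.vec chevB2 2 r i) →
    ∀ i, 0 ≤ RGDChev.vec chevB2 2 (Tw.brB r) i := by decide +kernel

theorem exF (m : ℕ) (i : Fin 4) : Tw.exF4 m (chevF4.simple i) = m + (![1, 1, 0, 0] : Fin 4 → ℕ) i := by
  have h : ∀ i : Fin 4, TwF4.Fix.isLong (chevF4.simple i) = (![false, false, true, true] : Fin 4 → Bool) i := by
    decide +kernel
  rw [Tw.exF4, h]
  fin_cases i <;> rfl

theorem exB : ∀ i : Fin 2, Tw.lgB (chevB2.simple i) = (![1, 0] : Fin 2 → ℕ) i := by decide +kernel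

theorem spcD_B : Tw.SpcD chevB2 2 Tw.brB Tw.lgB (Equiv.swap (0 : Fin 2) 1) 1 where
  lt r hr := (Tw.tabB r hr).1
  inv r hr := (Tw.tabB r hr).2.1
  neg r hr := (Tw.tabB r hr).2.2.1
  exneg r hr := (Tw.tabB r hr).2.2.2.1
  sum r hr := (Tw.tabB r hr).2.2.2.2.1
  simple := by decide +kernel

theorem ge6 (c : ℕ) : ∀ i j : Fin 6, chevE6.graphExp c i j = 1 := by
  have h : ∀ i j : Fin 6, (chevE6.isLong (chevE6.simple j) && !chevE6.isLong (chevE6.simple i)) = false := by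
    decide +kernel
  intro i j
  rw [ChevalleyDatum.graphExp, h]
  rfl

theorem ge4 (c : ℕ) : ∀ i j : Fin 4, chevD4.graphExp c i j = 1 := by
  have h : ∀ i j : Fin 4, (chevD4.isLong (chevD4.simple j) && !chevD4.isLong (chevD4.simple i)) = false := by
    decide +kernel
  intro i j
  rw [ChevalleyDatum.graphExp, h]
  rfl

theorem geF : ∀ i : Fin 4, chevF4.graphExp 2 i (piF i) = 2 ^ (0 + (![1, 1, 0, 0] : Fin 4 → ℕ) i) := by decide +kernel

theorem geB : ∀ i : Fin 2, chevB2.graphExp 2 i (Equiv.swap (0 : Fin 2) 1 i : Fin 2) = 2 ^ (![1, 0] : Fin 2 → ℕ) i := by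
  decide +kernel

section Types

variable (p : ℕ) [Fact p.Prime] (k : Type) [Field k] [CharP k p] [IsAlgClosed k]

/-- the graph automorphism of `E₆` -/
def gd6 : Gd hpE6 p (symmE6.aut k) pi6 fun _ => 0 := gdS hpE6 p k symmE6 tab6 onto6

/-- triality -/
def gd4a : Gd hpD4 p (symmD4a.aut k) pi4 fun _ => 0 := gdS hpD4 p k symmD4a tab4 onto4

/-- a graph involution of `D₄` -/
def gd4c : Gd hpD4 p (symmD4c.aut k) pi4c fun _ => 0 := gdS hpD4 p k symmD4c tab4c onto4c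

variable (F : Type) [Field F] [Fintype F] [CharP F p]

theorem grL_E8 : GrL hpE8 p k F [1] := fun _ _ hρ _ =>
  gr_one (eq_one_of_imgs (List.mem_singleton.1 (imgs_E8 hρ))) (List.mem_singleton.2 rfl) _

theorem grL_E7 : GrL hpE7 p k F [1] := fun _ _ hρ _ =>
  gr_one (eq_one_of_imgs (List.mem_singleton.1 (imgs_E7 hρ))) (List.mem_singleton.2 rfl) _

theorem grL_G2 (h3 : p ≠ 3) (hq : 3 ≤ Fintype.card F) : GrL hpG2 p k F [1] := by
  intro g ρ _ hg
  refine gr_one ?_ (List.mem_singleton.2 rfl) _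
  rcases H69.OutGF.perm2 ρ with h | h
  · exact h
  · have h1 := realised_of (hp := hpG2) (p := p) hg
    have h2 : ρ = H69.OutGF.flip2 := h
    rw [h2] at h1
    refine absurd h1 (H69.OutGF.flip2_not_mem (fun h4 => h3 ?_) (by rwa [Nat.card_eq_fintype_card]))
    exact (Nat.prime_dvd_prime_iff_eq Fact.out Nat.prime_three).1 ((CharP.cast_eq_zero_iff F p 3).1 h4)

theorem grL_F4 (h2 : p ≠ 2) : GrL hpF4 p k F [1] := by
  intro g ρ _ hg
  refine gr_one ?_ (List.mem_singleton.2 rfl) _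
  have h1 := realised_of (hp := hpF4) (p := p) hg
  rcases H69.OutGF.realised_F4 h1 with h | h
  · exact h
  · rw [h] at h1
    refine absurd h1 (H69.OutGF.flip4_not_mem fun h4 => h2 ?_)
    exact (Nat.prime_dvd_prime_iff_eq Fact.out Nat.prime_two).1 ((CharP.cast_eq_zero_iff F p 2).1 h4)

theorem grL_E6 : GrL hpE6 p k F [1, P6] := by
  intro g ρ hρ _
  have h := imgs_E6 hρ
  rcases List.mem_cons.1 h with h | h
  · exact gr_one (eq_one_of_imgs h) List.mem_cons_self _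
  · exact ⟨_, pi6, _, ⟨gd6 p k⟩, by rw [pm_zero]; exact List.mem_cons_of_mem _ List.mem_cons_self, fun i =>
      ⟨val_of_imgs (hp := hpE6) (List.mem_singleton.1 h) (by decide) i, ge6 _ _ _⟩⟩

theorem grL_D4 : GrL hpD4 p k F L4 := by
  intro g ρ hρ _
  have h := imgs_D4 hρ
  have key : ∀ (α : MulAut ↥(chevD4.group k)) (π : Equiv.Perm (Fin 4)) (L : List ℕ), Gd hpD4 p α π (fun _ => 0) →
      pmat π ∈ L4 → imgs ρ = L → (∀ i : Fin 4, L.getD i 0 = π i) →
      ∃ (α : MulAut ↥(chevD4.group k)) (π : Equiv.Perm (Fin 4)) (x : Fin 4 → ℕ), Nonempty (Gd hpD4 p α π x) ∧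
        pm p π x ∈ L4 ∧ ∀ i : Fin 4, (ρ ⟨i, lt_rank hpD4 i⟩ : ℕ) = π i ∧
          chevD4.graphExp (ringChar F) i (π i) = p ^ x i := fun α π L G h1 h2 h3 =>
    ⟨α, π, _, ⟨G⟩, by rwa [pm_zero], fun i => ⟨val_of_imgs (hp := hpD4) h2 h3 i, ge4 _ _ _⟩⟩
  simp only [List.mem_cons, List.not_mem_nil, or_false] at h
  rcases h with h | h | h | h | h | h
  · exact gr_one (eq_one_of_imgs h) List.mem_cons_self _
  · exact key _ _ _ ((gd4c p k).mul (gd4a p k)) (by simp [L4]) h (by decide)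
  · exact key _ _ _ (gd4c p k) (by simp [L4]) h (by decide)
  · exact key _ _ _ (gd4a p k) (by simp [L4]) h (by decide)
  · exact key _ _ _ ((gd4a p k).mul (gd4a p k)) (by simp [L4]) h (by decide)
  · exact key _ _ _ ((gd4a p k).mul (gd4c p k)) (by simp [L4]) h (by decide)

end Types

section Two

variable (k : Type) [Field k] [CharP k 2] [IsAlgClosed k]

/-- the special isogenies of `F₄` -/
noncomputable def gdF (m : ℕ) : Gd hpF4 2 (Tw.steA k m) piF fun i => m + (![1, 1, 0, 0] : Fin 4 → ℕ) i :=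
  gdC (Tw.spc_F4 m) (Tw.spcD_F4 m) posF (exF m)

/-- the special isogeny of `B₂` -/
noncomputable def gdB : Gd hpB2 2 (Tw.gamB k) (Equiv.swap 0 1) ![1, 0] := gdC (Tw.spc_gamB k) spcD_B posB exB

variable (F : Type) [Field F] [Fintype F] [CharP F 2]

theorem grL_F4two : GrL hpF4 2 k F [1, GamF] := by
  intro g ρ hρ _
  have h := imgs_F4 hρ
  rcases List.mem_cons.1 h with h | h
  · exact gr_one (eq_one_of_imgs h) List.mem_cons_self _
  · refine ⟨_, piF, _, ⟨gdF k 0⟩, ?_, fun i => ⟨val_of_imgs (hp := hpF4) (List.mem_singleton.1 h) (by decide) i, ?_⟩⟩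
    · rw [pm_add, pow_zero, one_smul]
      exact List.mem_cons_of_mem _ List.mem_cons_self
    · rw [ringChar.eq F 2]
      exact geF i

theorem grL_B2two : GrL hpB2 2 k F [1, GamB] := by
  intro g ρ hρ _
  have h := imgs_B2 hρ
  rcases List.mem_cons.1 h with h | h
  · exact gr_one (eq_one_of_imgs h) List.mem_cons_self _
  · refine ⟨_, _, _, ⟨gdB k⟩, List.mem_cons_of_mem _ List.mem_cons_self, fun i =>
      ⟨val_of_imgs (hp := hpB2) (List.mem_singleton.1 h) (by decide) i, ?_⟩⟩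
    rw [ringChar.eq F 2]
    exact geB i

end Two

end Cfsg.Agent.KZ.DatX

private theorem dce_6f749f701b90 : _root_.True := by
  try have : _root_.True := by simp only [_root_.Cfsg.Agent.KZ.DatX.pmat.eq_1]
  try have : _root_.True := by simp only [_root_.Cfsg.Lie.ChevalleyDatum.graphExp.eq_1]
  try have : _root_.True := by simp only [_root_.Cfsg.Agent.KZ.DatX.L4.eq_1]
  exact _root_.True.intro
end

-- part: KZ/DatX/Main
section
set_option linter.all false
open scoped Cfsg.Agent.FastGrp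

/-!
# KZ, the exceptional groups as sections of `G ^ F` (helper84)

`has_G2`, `has_F4`, `has_F4two`, `has_E6`, `has_E7`, `has_E8`, `has_D4`, `has_plus8`, `has_B2two`, `has_PSp4`, `has_2E6`,
`has_3D4`, `has_2F4`; for the families of the box: `row_G2`, `row_F4`, `row_E6`, `row_E7`, `row_E8`, `row_2E6`, `row_3D4`,
`row_2F4`.
-/

set_option autoImplicit false
set_option linter.unusedSectionVars false

namespace Cfsg.Agent.KZ.DatX

open CoxeterSystem Cfsg Cfsg.Lie Cfsg.Lie.ChevalleyDatum Matrix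
open Cfsg.Agent.ChevalleyStructure Cfsg.Agent.ChevalleyStructure.Elts Cfsg.Agent.ChevalleyStructure.CoxeterGeom
  Cfsg.Agent.ChevalleyStructure.CoxeterGeomTypes Cfsg.Agent.ChevalleyStructure.NPerm
open Cfsg.Agent.Tits.Roots Cfsg.Agent.Nodes Cfsg.Agent.Nodes.RGDChev Cfsg.Agent.Nodes.BNOf
open Cfsg.Agent.KFacts.RgdChevCoord Cfsg.Agent.BpExc.TowChev Cfsg.Agent.GpExc.Field Cfsg.Agent.BpExc
  Cfsg.Agent.BpExc.TorChev
open Cfsg.Agent.DL Cfsg.Agent.DL.Ex Cfsg.Agent.DL.PP Cfsg.Agent.DL.Uni Cfsg.Agent.KZ.Lie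
open Cfsg.Agent.ChevalleyStructure.SignedSymm Cfsg.Agent.ChevalleyStructure.GraphSymm

/-! ### arithmetic -/

theorem cop_sub {p e : ℕ} (hp : 0 < p) (he : 0 < e) (d : ℕ) : (Nat.gcd d (p ^ e - 1)).Coprime p := by
  refine Nat.Coprime.coprime_dvd_left (Nat.gcd_dvd_right _ _) ?_
  refine Nat.Coprime.coprime_dvd_right (dvd_pow_self p he.ne') ?_
  exact (Nat.coprime_self_sub_left (pow_pos hp e)).2 (Nat.coprime_one_left _)

theorem cop_add {p e : ℕ} (he : 0 < e) (d : ℕ) : (Nat.gcd d (p ^ e + 1)).Coprime p := by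
  refine Nat.Coprime.coprime_dvd_left (Nat.gcd_dvd_right _ _) ?_
  refine Nat.Coprime.coprime_dvd_right (dvd_pow_self p he.ne') ?_
  exact Nat.coprime_self_add_left.2 (Nat.coprime_one_left _)

theorem gcd_two_odd {n : ℕ} (h : Odd (Nat.gcd 2 n)) : Nat.gcd 2 n = 1 := by
  rcases (Nat.dvd_prime Nat.prime_two).1 (Nat.gcd_dvd_left 2 n) with h1 | h1
  · exact h1
  · rw [h1] at h
    exact absurd h (by decide)

theorem idx_of_one {Y S : Type} [Group Y] [Group S] {F : MulAut Y} {G T : Subgroup Y} {ι : S →* Y} {d : ℕ}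
    (O : Over F G T ι d) (h : d = 1) : O.hom.range.index ∣ d := by
  subst h
  have h1 : O.hom.range = ⊤ := by
    rw [eq_top_iff]
    intro g _
    rw [O.mem_range, O.range_eq]
    exact g.2
  rw [h1, Subgroup.index_top]

theorem conj_hom {Y S : Type} [Group Y] [Group S] (ι : S →* Y) (g : S) (α : MulAut S) (s : S) :
    ι ((MulAut.conj g * α) s) = ι g * ι (α s) * (ι g)⁻¹ := by
  rw [MulAut.mul_apply, MulAut.conj_apply, map_mul, map_mul, map_inv]

/-! ### the split groups -/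

section Split

variable {p : ℕ} [Fact p.Prime] {F : Type} [Field F] [Fintype F] [CharP F p] {e : ℕ} (hF : Fintype.card F = p ^ e)

include hF in
theorem pos_of_card : 0 < e := by
  rcases Nat.eq_zero_or_pos e with h | h
  · have h1 := Fintype.one_lt_card (α := F)
    rw [hF, h, pow_zero] at h1
    exact absurd h1 (lt_irrefl _)
  · exact h

include hF in
theorem has_split {C : ChevalleyDatum} {l : ℕ} {M : CoxeterMatrix (Fin l)} (hp : IsType C l M) {d : ℕ}
    [CharP (AlgebraicClosure F) p]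
    (O : Over (frobA hp.inList p e) ⊤ (TT C (AlgebraicClosure F)) (emb hp.inList (algebraMap F _)) d) (cop : d.Coprime p)
    (idx : Odd d → O.hom.range.index ∣ d) {L : List (Matrix (Fin l) (Fin l) ℤ)} (h1 : 1 ∈ L)
    (hL : GrL hp p (AlgebraicClosure F) F L) : Has hp p ((p : ℤ) ^ e • 1) (AdmL p L) d ↥(C.group F) :=
  ⟨_, _, _, _, _, ⟨xsS _ (locFin_closure F) (pos_of_card hF) hF O cop idx h1 hL⟩⟩

include hF in
theorem has_split1 {C : ChevalleyDatum} {l : ℕ} {M : CoxeterMatrix (Fin l)} (hp : IsType C l M)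
    [CharP (AlgebraicClosure F) p]
    (O : Over (frobA hp.inList p e) ⊤ (TT C (AlgebraicClosure F)) (emb hp.inList (algebraMap F _)) 1)
    {L : List (Matrix (Fin l) (Fin l) ℤ)} (h1 : 1 ∈ L) (hL : GrL hp p (AlgebraicClosure F) F L) :
    Has hp p ((p : ℤ) ^ e • 1) (AdmL p L) 1 ↥(C.group F) :=
  has_split hF hp O (Nat.coprime_one_left _) (fun _ => idx_of_one O rfl) h1 hL

variable (p F) in
theorem charP_closure : CharP (AlgebraicClosure F) p := charP_of_injective_algebraMap (algebraMap F _).injective p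

include hF

theorem has_G2 (h3 : p ≠ 3) (hq : 3 ≤ Fintype.card F) : Has hpG2 p ((p : ℤ) ^ e • 1) (AdmF p) 1 ↥(chevG2.group F) :=
  have := charP_closure p F
  (has_split1 hF hpG2 (over_G2 _ hF hpG2) List.mem_cons_self
    (grL_G2 p _ F h3 hq)).mono fun _ => AdmL.admF

theorem has_F4 (h2 : p ≠ 2) : Has hpF4 p ((p : ℤ) ^ e • 1) (AdmF p) 1 ↥(chevF4.group F) :=
  have := charP_closure p F
  (has_split1 hF hpF4 (over_F4 _ hF hpF4) List.mem_cons_self
    (grL_F4 p _ F h2)).mono fun _ => AdmL.admF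

theorem has_E8 : Has hpE8 p ((p : ℤ) ^ e • 1) (AdmF p) 1 ↥(chevE8.group F) :=
  have := charP_closure p F
  (has_split1 hF hpE8 (over_E8 _ hF hpE8) List.mem_cons_self
    (grL_E8 p _ F)).mono fun _ => AdmL.admF

theorem has_E7 : Has hpE7 p ((p : ℤ) ^ e • 1) (AdmF p) (Nat.gcd 2 (p ^ e - 1)) ↥(chevE7.group F) :=
  have := charP_closure p F
  (has_split hF hpE7 (over_E7 _ hF hpE7) (cop_sub (Fact.out : p.Prime).pos (pos_of_card hF) 2)
    (fun _ => index_dvd_E7 _ hF hpE7) List.mem_cons_self (grL_E7 p _ F)).mono fun _ => AdmL.admF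

theorem has_E6 : Has hpE6 p ((p : ℤ) ^ e • 1) (AdmL p [1, P6]) (Nat.gcd 3 (p ^ e - 1)) ↥(chevE6.group F) :=
  have := charP_closure p F
  has_split hF hpE6 (over_E6 _ hF hpE6) (cop_sub (Fact.out : p.Prime).pos (pos_of_card hF) 3)
    (fun _ => index_dvd_E6 _ hF hpE6) List.mem_cons_self (grL_E6 p _ F)

theorem has_D4 : Has hpD4 p ((p : ℤ) ^ e • 1) (AdmL p L4) (Nat.gcd 2 (p ^ e - 1)) ↥(chevD4.group F) :=
  have := charP_closure p F
  have O := over_split hpD4 (algebraMap F (AlgebraicClosure F)) hF H129.TorusChar.invC_D4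
  has_split hF hpD4 O (cop_sub (Fact.out : p.Prime).pos (pos_of_card hF) 2) (fun h => idx_of_one O (gcd_two_odd h))
    List.mem_cons_self (grL_D4 p _ F)

/-- `PΩ₈⁺(q)` -/
theorem has_plus8 : Has hpD4 p ((p : ℤ) ^ e • 1) (AdmL p L4) (Nat.gcd 2 (p ^ e - 1)) (POmega F (quadFormPlus 4 F)) := by
  obtain ⟨i⟩ := S1082.result (F := F)
  exact (has_D4 hF).congr i.symm

end Split

section Two

variable {F : Type} [Field F] [Fintype F] [CharP F 2] {e : ℕ} (hF : Fintype.card F = 2 ^ e)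

include hF

theorem has_F4two : Has hpF4 2 ((2 : ℤ) ^ e • 1) (AdmL 2 [1, GamF]) 1 ↥(chevF4.group F) :=
  have := charP_closure 2 F
  has_split1 hF hpF4 (over_F4 _ hF hpF4) List.mem_cons_self
    (grL_F4two _ F)

theorem has_B2two : Has hpB2 2 ((2 : ℤ) ^ e • 1) (AdmL 2 [1, GamB]) 1 ↥(chevB2.group F) := by
  have := charP_closure 2 F
  have h1 : Nat.gcd 2 (2 ^ e - 1) = 1 :=
    Nat.Coprime.eq_one_of_dvd (cop_sub two_pos (pos_of_card hF) 2) (Nat.gcd_dvd_left _ _)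
  have O := over_split hpB2 (algebraMap F (AlgebraicClosure F)) hF invC_B2
  rw [h1] at O
  exact has_split1 hF hpB2 O List.mem_cons_self (grL_B2two _ F)

/-- `Sp₄(2 ^ e)` -/
theorem has_PSp4 : Has hpB2 2 ((2 : ℤ) ^ e • 1) (AdmL 2 [1, GamB]) 1 (PSp 2 F) := by
  obtain ⟨i⟩ := B2Sp4.chevB2_equiv_PSp F
  exact (has_B2two hF).congr i.symm

end Two

/-! ### the twisted groups -/

section Tw

variable {p : ℕ} [Fact p.Prime] {K : Type} [Field K] [Fintype K] [CharP K p] {e : ℕ}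

theorem pm_frob {l : ℕ} (π : Equiv.Perm (Fin l)) :
    pm p (π * 1) (fun i => e + (fun _ => 0 : Fin l → ℕ) ((1 : Equiv.Perm (Fin l)) i)) = (p : ℤ) ^ e • pmat π := by
  rw [mul_one, ← pm_zero p]
  exact pm_add p π e fun _ => 0

theorem has_3D4 (hK : Fintype.card K = (p ^ e) ^ 3) :
    Has hpD4 p ((p : ℤ) ^ e • P4) (AdmF p) 1 ↥(twistedD4 K (p ^ e)) := by
  have := charP_closure p K
  have he : 0 < e := by
    have h := pos_of_card (hK.trans (pow_mul _ _ _).symm)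
    omega
  have hk := locFin_closure K
  have O := over_3D4 (algebraMap K (AlgebraicClosure K)) he hK
  refine ⟨AlgebraicClosure K, _, _, _, _, ⟨xsT hk (amb_of_pow hk three_pos (by omega) (sigD4_cube (m := e)))
    ((gd4a p _).mul (Gd.frob hpD4 p _ e)) (pm_frob pi4) O (Nat.coprime_one_left _) (fun _ => idx_of_one O rfl)
    fun σ => ?_⟩⟩
  obtain ⟨g, τ, rfl⟩ := H135.TD.AutOne.exists_st (isPrimePow_pow he) hK p σ
  obtain ⟨j, hj⟩ := exists_frob p τ
  refine ⟨_, (O.mem g).2, j, fun s => (conj_hom _ g _ s).trans ?_⟩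
  congr 2
  exact frob_eq (hp := hpD4) _ hj rfl rfl

theorem has_2E6 (hK : Fintype.card K = (p ^ e) ^ 2) :
    Has hpE6 p ((p : ℤ) ^ e • P6) (AdmF p) (Nat.gcd 3 (p ^ e + 1)) ↥(twistedE6 K (p ^ e)) := by
  have := charP_closure p K
  have he : 0 < e := by
    have h := pos_of_card (hK.trans (pow_mul _ _ _).symm)
    omega
  have hk := locFin_closure K
  refine ⟨AlgebraicClosure K, _, _, _, _, ⟨xsT hk (amb_of_pow hk two_pos (by omega) (sigE6_sq (m := e)))
    ((gd6 p _).mul (Gd.frob hpE6 p _ e)) (pm_frob pi6) (over_2E6 (algebraMap K _) he hK) (cop_add he 3)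
    (fun _ => index_dvd_2E6 _ he hK) fun σ => ?_⟩⟩
  obtain ⟨φ, hφ, hqq⟩ := TwE6Basic.exists_frob (isPrimePow_pow he) hK
  have hW : Finite CoxeterMatrix.F₄.Group := finite_W hpF4 CoxeterMatrix.F₄.toCoxeterSystem
  obtain ⟨-, τ, y, -, h1, h2⟩ := FamTw.Six.exists_lift hφ hqq CoxeterMatrix.F₄.toCoxeterSystem p
    (algebraMap K (AlgebraicClosure K)) hK (isPrimePow_pow he).one_lt
    (fun a => IsAlgClosed.exists_pow_nat_eq _ three_pos) (Φ := iterateFrobeniusEquiv (AlgebraicClosure K) p e)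
    (fun a => by rw [hφ, map_pow, iterateFrobeniusEquiv_def]) σ
  obtain ⟨j, hj⟩ := exists_frob p τ
  refine ⟨y, Subtype.ext (congrArg Subtype.val h1), j, fun s => (h2 s).trans ?_⟩
  congr 2
  exact frob_eq (hp := hpE6) _ hj rfl rfl

end Tw

theorem has_2F4 {K : Type} [Field K] [Fintype K] {m : ℕ} (hm : 1 ≤ m) (hK : Fintype.card K = 2 ^ (2 * m + 1)) :
    Has hpF4 2 ((2 : ℤ) ^ m • GamF) (AdmF 2) 1 ↥(twistedF4 K (2 ^ m)) := by
  obtain ⟨_, _, hk⟩ := Tw.setup' Nat.prime_two (Nat.succ_ne_zero _) hK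
  have O : Over (Tw.steA (AlgebraicClosure K) m) ⊤ (TT chevF4 _) (H759.TwF.eF m (algebraMap K _)) 1 := by
    refine over_of_range (H759.TwF.eF_injective _) (le_antisymm ?_ fun y hy => H759.TwF.exists_eF hK _ hy.2)
      (TT_comm hpF4) le_top
    rintro _ ⟨s, rfl⟩
    exact ⟨trivial, H759.TwF.ste_eF hK _ s⟩
  refine ⟨AlgebraicClosure K, _, _, _, _, ⟨xsT hk ((Tw.spc_F4 m).amb (Tw.spcD_F4 m) hk (Nat.succ_pos _)) (gdF _ m)
    (pm_add 2 piF m _) O (Nat.coprime_one_left _) (fun _ => idx_of_one O rfl) fun σ => ?_⟩⟩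
  obtain ⟨g, τ, rfl⟩ := H71.FldAut.twF4_aut hm hK σ
  obtain ⟨j, hj⟩ := exists_frob 2 τ
  refine ⟨_, (O.mem g).2, j, fun s => (conj_hom _ g _ s).trans ?_⟩
  congr 2
  exact frob_eq (hp := hpF4) _ hj rfl rfl

/-! ### the families of the box -/

section Rows

variable {S : Type} [Group S]

theorem exists_char (F : Type) [Field F] [Fintype F] (h : ¬ 3 ∣ Fintype.card F) :
    ∃ (p e : ℕ) (_ : Fact p.Prime) (_ : CharP F p), p ≠ 3 ∧ 0 < e ∧ Fintype.card F = p ^ e := by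
  obtain ⟨p, e, _, _, -, he, hF, -⟩ := exists_closure F
  refine ⟨p, e, ‹_›, ‹_›, ?_, he, hF⟩
  rintro rfl
  exact h (hF ▸ dvd_pow_self 3 he.ne')

theorem exists_char' (K : Type) [Field K] [Fintype K] (h : ¬ 3 ∣ Fintype.card K) {q j : ℕ} (hq : IsPrimePow q)
    (hj : j ≠ 0) (hK : Fintype.card K = q ^ j) :
    ∃ (p e : ℕ) (_ : Fact p.Prime) (_ : CharP K p), p ≠ 3 ∧ 0 < e ∧ q = p ^ e := by
  obtain ⟨p, e, _, _, -, he, hF, -⟩ := Tw.setup hq hj hK
  refine ⟨p, e, ‹_›, ‹_›, ?_, he, hF⟩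
  rintro rfl
  exact h (hK ▸ hF ▸ (dvd_pow_self 3 he.ne').trans (dvd_pow_self _ hj))

theorem row_G2 (h : ChevX chevG2 3 S) : ∃ (p e : ℕ) (_ : Fact p.Prime), p ≠ 3 ∧ 0 < e ∧ 3 ≤ p ^ e ∧
    Has hpG2 p ((p : ℤ) ^ e • 1) (AdmF p) 1 S := by
  obtain ⟨F, _, _, h1, h2, ⟨i⟩⟩ := h
  obtain ⟨p, e, _, _, h3, he, hF⟩ := exists_char F h1
  exact ⟨p, e, ‹_›, h3, he, hF ▸ h2, (has_G2 hF h3 h2).congr i⟩

theorem row_F4 (h : ChevX chevF4 0 S) :
    (∃ (p e : ℕ) (_ : Fact p.Prime), p ≠ 3 ∧ p ≠ 2 ∧ 0 < e ∧ Has hpF4 p ((p : ℤ) ^ e • 1) (AdmF p) 1 S) ∨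
      ∃ e : ℕ, 0 < e ∧ Has hpF4 2 ((2 : ℤ) ^ e • 1) (AdmL 2 [1, GamF]) 1 S := by
  obtain ⟨F, _, _, h1, -, ⟨i⟩⟩ := h
  obtain ⟨p, e, _, _, h3, he, hF⟩ := exists_char F h1
  by_cases h2 : p = 2
  · subst h2
    exact .inr ⟨e, he, (has_F4two hF).congr i⟩
  · exact .inl ⟨p, e, ‹_›, h3, h2, he, (has_F4 hF h2).congr i⟩

theorem row_E7 (h : ChevX chevE7 0 S) : ∃ (p e : ℕ) (_ : Fact p.Prime), p ≠ 3 ∧ 0 < e ∧
    Has hpE7 p ((p : ℤ) ^ e • 1) (AdmF p) (Nat.gcd 2 (p ^ e - 1)) S := by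
  obtain ⟨F, _, _, h1, -, ⟨i⟩⟩ := h
  obtain ⟨p, e, _, _, h3, he, hF⟩ := exists_char F h1
  exact ⟨p, e, ‹_›, h3, he, (has_E7 hF).congr i⟩

theorem row_E8 (h : ChevX chevE8 0 S) : ∃ (p e : ℕ) (_ : Fact p.Prime), p ≠ 3 ∧ 0 < e ∧
    Has hpE8 p ((p : ℤ) ^ e • 1) (AdmF p) 1 S := by
  obtain ⟨F, _, _, h1, -, ⟨i⟩⟩ := h
  obtain ⟨p, e, _, _, h3, he, hF⟩ := exists_char F h1
  exact ⟨p, e, ‹_›, h3, he, (has_E8 hF).congr i⟩

theorem row_3D4 (h : TwD4X S) : ∃ (p e : ℕ) (_ : Fact p.Prime), p ≠ 3 ∧ 0 < e ∧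
    Has hpD4 p ((p : ℤ) ^ e • P4) (AdmF p) 1 S := by
  obtain ⟨K, _, _, q, h1, hq, hK, ⟨i⟩⟩ := h
  obtain ⟨p, e, _, _, h3, he, rfl⟩ := exists_char' K h1 hq three_ne_zero hK
  exact ⟨p, e, ‹_›, h3, he, (has_3D4 hK).congr i⟩

theorem row_2F4 (h : Iso2F4 S) : ∃ m : ℕ, 1 ≤ m ∧ Has hpF4 2 ((2 : ℤ) ^ m • GamF) (AdmF 2) 1 S := by
  obtain ⟨K, _, _, m, hm, hK, ⟨i⟩⟩ := h
  exact ⟨m, hm, (has_2F4 hm hK).congr i⟩

end Rows

end Cfsg.Agent.KZ.DatX
end

-- part: KZ/DatX/Weyl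
section
set_option linter.all false
open scoped Cfsg.Agent.FastGrp

/-!
# KZ, the Weyl groups of the exceptional data (helper84)

* `app A L v` : the action of a word on a vector given as a list (fast in the kernel), `prod_mulVec`, `prod_eq_of`;
* `XF.exists_neg_*` : `-1` (for `E₆` : `-P6`) is the matrix of an element of the Weyl group; `card_W_*`;
* `XF.g_Mx` : the permutation of the roots.
-/

set_option autoImplicit false
set_option linter.unusedSectionVars false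

namespace Cfsg.Agent.KZ.DatX

open CoxeterSystem Cfsg Cfsg.Lie Cfsg.Lie.ChevalleyDatum Matrix
open Cfsg.Agent.ChevalleyStructure Cfsg.Agent.ChevalleyStructure.CoxeterGeom
  Cfsg.Agent.ChevalleyStructure.CoxeterGeomTypes
open Cfsg.Agent.Tits.Roots Cfsg.Agent.Nodes Cfsg.Agent.Nodes.RGDChev Cfsg.Agent.DL Cfsg.Agent.DL.Ex

variable {C : ChevalleyDatum} {l : ℕ} {M : CoxeterMatrix (Fin l)}

/-- a simple reflection acting on a list; `A` is the list of the rows of the Cartan matrix -/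
def refL (A : List (List ℤ)) (i : ℕ) (v : List ℤ) : List ℤ :=
  List.zipWith (fun a c => a - v.getD i 0 * c) v (A.getD i [])

/-- a word acting on a list -/
def app (A : List (List ℤ)) (L : List (Fin l)) (v : List ℤ) : List ℤ := L.foldr (fun i u => refL A i u) v

/-- `A` is the list of the rows of the Cartan matrix -/
def IsRows (C : ChevalleyDatum) (l : ℕ) (A : List (List ℤ)) : Prop := ∀ i : Fin l, A.getD i [] = List.ofFn (cartanOf C l i)

instance decIsRows (C : ChevalleyDatum) (l : ℕ) (A : List (List ℤ)) : Decidable (IsRows C l A) := by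
  unfold IsRows; infer_instance

theorem getD_ofFn (v : Fin l → ℤ) (i : Fin l) : (List.ofFn v).getD i 0 = v i := by
  rw [List.getD_eq_getElem?_getD, List.getElem?_ofFn, dif_pos i.2]
  rfl

theorem sM_mulVec (i : Fin l) (v : Fin l → ℤ) : sM C l i *ᵥ v = fun a => v a - v i * cartanOf C l i a := by
  funext a
  simp only [mulVec, dotProduct, sM, Matrix.of_apply, sub_mul, ite_mul, one_mul, zero_mul, Finset.sum_sub_distrib,
    Finset.sum_ite_eq, Finset.sum_ite_eq', Finset.mem_univ, if_true]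
  rw [mul_comm]

theorem refL_ofFn {A : List (List ℤ)} (h : IsRows C l A) (i : Fin l) (v : Fin l → ℤ) :
    refL A i (List.ofFn v) = List.ofFn (sM C l i *ᵥ v) := by
  rw [refL, h, getD_ofFn, sM_mulVec]
  apply List.ext_getElem <;> simp

theorem app_ofFn {A : List (List ℤ)} (h : IsRows C l A) (L : List (Fin l)) (v : Fin l → ℤ) :
    app A L (List.ofFn v) = List.ofFn ((L.map (sM C l)).prod *ᵥ v) := by
  induction L with
  | nil => rw [List.map_nil, List.prod_nil, one_mulVec]; rfl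
  | cons i L ih =>
    rw [List.map_cons, List.prod_cons, ← mulVec_mulVec, ← refL_ofFn h, ← ih]
    rfl

/-- the action of a word on a vector -/
theorem prod_mulVec {A : List (List ℤ)} (h : IsRows C l A) (L : List (Fin l)) {v u : Fin l → ℤ}
    (hu : app A L (List.ofFn v) = List.ofFn u) : (L.map (sM C l)).prod *ᵥ v = u :=
  List.ofFn_injective ((app_ofFn h L v).symm.trans hu)

/-- the matrix of a word, column by column -/
theorem prod_eq_of {A : List (List ℤ)} (h : IsRows C l A) (L : List (Fin l)) {B : Matrix (Fin l) (Fin l) ℤ}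
    (hB : ∀ j : Fin l, app A L (List.ofFn fun i => if i = j then 1 else 0) = List.ofFn fun i => B i j) :
    (L.map (sM C l)).prod = B := by
  ext i j
  have h1 := congrFun (prod_mulVec h L (hB j)) i
  simpa only [mulVec, dotProduct, mul_ite, mul_one, mul_zero, Finset.sum_ite_eq', Finset.mem_univ, if_true] using h1

/-- the rows of the Cartan matrices -/
def rowsG2 : List (List ℤ) := [[2, -3], [-1, 2]]

/-- the rows of the Cartan matrices -/
def rowsB2 : List (List ℤ) := [[2, -2], [-1, 2]]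

/-- the rows of the Cartan matrices -/
def rowsD4 : List (List ℤ) := [[2, -1, 0, 0], [-1, 2, -1, -1], [0, -1, 2, 0], [0, -1, 0, 2]]

/-- the rows of the Cartan matrices -/
def rowsF4 : List (List ℤ) := [[2, -1, 0, 0], [-1, 2, -2, 0], [0, -1, 2, -1], [0, 0, -1, 2]]

/-- the rows of the Cartan matrices -/
def rowsE6 : List (List ℤ) := [[2, 0, -1, 0, 0, 0], [0, 2, 0, -1, 0, 0], [-1, 0, 2, -1, 0, 0], [0, -1, -1, 2, -1, 0],
  [0, 0, 0, -1, 2, -1], [0, 0, 0, 0, -1, 2]]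

/-- the rows of the Cartan matrices -/
def rowsE7 : List (List ℤ) := [[2, 0, -1, 0, 0, 0, 0], [0, 2, 0, -1, 0, 0, 0], [-1, 0, 2, -1, 0, 0, 0],
  [0, -1, -1, 2, -1, 0, 0], [0, 0, 0, -1, 2, -1, 0], [0, 0, 0, 0, -1, 2, -1], [0, 0, 0, 0, 0, -1, 2]]

/-- the rows of the Cartan matrices -/
def rowsE8 : List (List ℤ) := [[2, 0, -1, 0, 0, 0, 0, 0], [0, 2, 0, -1, 0, 0, 0, 0], [-1, 0, 2, -1, 0, 0, 0, 0],
  [0, -1, -1, 2, -1, 0, 0, 0], [0, 0, 0, -1, 2, -1, 0, 0], [0, 0, 0, 0, -1, 2, -1, 0], [0, 0, 0, 0, 0, -1, 2, -1],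
  [0, 0, 0, 0, 0, 0, -1, 2]]

theorem isRows_G2 : IsRows chevG2 2 rowsG2 := by decide +kernel

theorem isRows_B2 : IsRows chevB2 2 rowsB2 := by decide +kernel

theorem isRows_D4 : IsRows chevD4 4 rowsD4 := by decide +kernel

theorem isRows_F4 : IsRows chevF4 4 rowsF4 := by decide +kernel

theorem isRows_E6 : IsRows chevE6 6 rowsE6 := by (refine of_decide_eq_true ?_; delta Cfsg.Agent.ChevalleyStructure.CoxeterGeomTypes.cartanOf Cfsg.Agent.KZ.DatX.IsRows Cfsg.Agent.KZ.DatX.decIsRows; rewrite [Cfsg.Agent.ChevFast.E6.cartan]; decide +kernel)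

theorem isRows_E7 : IsRows chevE7 7 rowsE7 := by (refine of_decide_eq_true ?_; delta Cfsg.Agent.ChevalleyStructure.CoxeterGeomTypes.cartanOf Cfsg.Agent.KZ.DatX.IsRows Cfsg.Agent.KZ.DatX.decIsRows; rewrite [Cfsg.Agent.ChevFast.E7.cartan]; decide +kernel)

theorem isRows_E8 : IsRows chevE8 8 rowsE8 := by (refine of_decide_eq_true ?_; delta Cfsg.Agent.ChevalleyStructure.CoxeterGeomTypes.cartanOf Cfsg.Agent.KZ.DatX.IsRows Cfsg.Agent.KZ.DatX.decIsRows; rewrite [Cfsg.Agent.ChevFast.E8.cartan]; decide +kernel)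

/-- the power of a word -/
def pwL {α : Type} (L : List α) (n : ℕ) : List α := (List.replicate n L).flatten

theorem neg_D4 : ((pwL [0, 1, 2, 3] 3).map (sM chevD4 4)).prod = -1 := prod_eq_of isRows_D4 _ (by decide +kernel)

theorem neg_F4 : ((pwL [0, 1, 2, 3] 6).map (sM chevF4 4)).prod = -1 := prod_eq_of isRows_F4 _ (by decide +kernel)

theorem neg_E6 : ((pwL [0, 3, 5, 1, 2, 4] 6).map (sM chevE6 6)).prod = -P6 := prod_eq_of isRows_E6 _ (by decide +kernel)

theorem neg_E7 : ((pwL [0, 1, 2, 3, 4, 5, 6] 9).map (sM chevE7 7)).prod = -1 := prod_eq_of isRows_E7 _ (by decide +kernel)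

theorem neg_E8 : ((pwL [0, 1, 2, 3, 4, 5, 6, 7] 15).map (sM chevE8 8)).prod = -1 :=
  prod_eq_of isRows_E8 _ (by decide +kernel)

theorem card_W_B2 : Nat.card (CoxeterMatrix.B 2).Group = 8 := WeylData.certB2.card_group.trans WeylData.size_B2

theorem card_W_G2 : Nat.card CoxeterMatrix.G₂.Group = 12 := WeylData.certG2.card_group.trans WeylData.size_G2

theorem card_W_D4 : Nat.card coxeterD4.Group = 192 := WeylData.certD4.card_group.trans WeylData.size_D4

theorem card_W_F4 : Nat.card CoxeterMatrix.F₄.Group = 1152 := WeylData.certF4.card_group.trans WeylData.size_F4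

theorem card_W_E6 : Nat.card CoxeterMatrix.E₆.Group = 51840 := WeylData.certE6.card_group.trans WeylData.size_E6

theorem card_W_E7 : Nat.card CoxeterMatrix.E₇.Group = 2903040 := WeylData.certE7.card_group.trans WeylData.size_E7

theorem card_W_E8 : Nat.card CoxeterMatrix.E₈.Group = 696729600 := WeylData.certE8.card_group.trans WeylData.size_E8

namespace XF

variable {p : ℕ} [Fact p.Prime] {k : Type} [Field k] [CharP k p] [IsAlgClosed k]

section

variable {hp : IsType C l M} {Mx : Matrix (Fin l) (Fin l) ℤ} (X : XF hp p k Mx)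

theorem Wm_inj : Function.Injective X.D.Wm := X.D.Wm_injective

/-- the permutation of the roots -/
theorem g_Mx {a : Fin l → ℤ} (ha : X.D.Rt a) : X.D.g a ᵥ* Mx = (p : ℤ) ^ X.D.ex a • a := X.D.wt_g ha

/-- the action of the Weyl group on the roots -/
theorem act_vecMul (w : X.D.W) (a : Fin l → ℤ) : X.D.act w a ᵥ* X.D.Wm w = a := X.D.wt_act w a

theorem exists_of_prod {L : List (Fin l)} {B : Matrix (Fin l) (Fin l) ℤ} (h : (L.map (sM C l)).prod = B) :
    ∃ w, X.D.Wm w = B := ⟨_, (X.Wm_word L).trans h⟩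

end

theorem exists_neg_D4 {Mx : Matrix (Fin 4) (Fin 4) ℤ} (X : XF hpD4 p k Mx) : ∃ w, X.D.Wm w = -1 := X.exists_of_prod neg_D4

theorem exists_neg_F4 {Mx : Matrix (Fin 4) (Fin 4) ℤ} (X : XF hpF4 p k Mx) : ∃ w, X.D.Wm w = -1 := X.exists_of_prod neg_F4

theorem exists_neg_E6 {Mx : Matrix (Fin 6) (Fin 6) ℤ} (X : XF hpE6 p k Mx) : ∃ w, X.D.Wm w = -P6 :=
  X.exists_of_prod neg_E6

theorem exists_neg_E7 {Mx : Matrix (Fin 7) (Fin 7) ℤ} (X : XF hpE7 p k Mx) : ∃ w, X.D.Wm w = -1 := X.exists_of_prod neg_E7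

theorem exists_neg_E8 {Mx : Matrix (Fin 8) (Fin 8) ℤ} (X : XF hpE8 p k Mx) : ∃ w, X.D.Wm w = -1 := X.exists_of_prod neg_E8

end XF

end Cfsg.Agent.KZ.DatX

private theorem dce_dde0b8a2b47b : _root_.True := by
  try have : _root_.True := by simp only [_root_.Cfsg.Agent.KZ.DatX.refL.eq_1]
  exact _root_.True.intro
end
end
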